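import Mathlib
import Cfsg.Agent.BpLieP.Untw_m3
import Cfsg.Agent.CpAutU.Row_m3
import Cfsg.Agent.CpAut.OrthRow
import Cfsg.Agent.Nodes.CardSup_m3
import Cfsg.Agent.KFacts.RgdFilt
import Cfsg.Agent.CpAut.RgdConj
import Cfsg.Agent.KFacts.RgdFiltTwAll
import Cfsg.Agent.BpTab.Base
import Cfsg.Agent.LieClassical.SympSimple
import Cfsg.Agent.LieClassical.SympPerfect
import Cfsg.Agent.LieClassical.SympCount
import Cfsg.Agent.LieClassical.SpFourTwo
import Cfsg.Agent.ClassicalGeometry.SympIso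
import Cfsg.Agent.ClassicalGeometry.SympAutSemi
import Cfsg.Agent.S0765
import Cfsg.Agent.S0144
import Cfsg.Agent.LieClassical.OrthTrans
import Cfsg.Agent.BpLin.Quot
import Cfsg.Agent.GenOrth.Normal
import Cfsg.Agent.LieClassical.OrthFinite
import Cfsg.Agent.LieClassical.OrthThreeOmega
import Cfsg.Agent.LieClassical.OrthFourPlus
import Cfsg.Agent.LieClassical.OrthFourMinus
import Cfsg.Agent.SignalizersComponents.SLQuasisimple
import Cfsg.Agent.S0276
import Cfsg.Agent.ClassicalGeometry.SympGamma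
import Cfsg.Agent.ClassicalGeometry.SympAutTwo
import Cfsg.Agent.ClassicalGeometry.SympAutExists
import Cfsg.Agent.AutOrth.Final
import Cfsg.Agent.BpLin.Cent
import Cfsg.Prelude.Def_LieTypeChar
import Cfsg.Agent.BpTwo.Two
import Cfsg.Agent.S0296
import Cfsg.Agent.FastGrp
import Cfsg.Agent.Prune
set_option linter.all false
prune_inst 0x7ffdeefbbbb871dfdfff7e7fa79acffc39931fffa4dff94bbfe029ef9b9f030249e5aba589e000fe1ee3423410a87843f9ffcabfe26bd87ffffd1df41ffbee0ff5f7b50851de8cb40f382ff603f0778e7f3fffffffffffffffffffffffffffbeffbfffffffff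
open scoped Cfsg.Agent.FastGrp

-- part: BpLieP/Main
section
-- merged: Cfsg.Agent.BpLieP.Psl
section

/-!
# S1332: `PSL_n(q)`, `PSp_2m(q)` in characteristic `p` odd
-/

set_option autoImplicit false
set_option linter.unusedSectionVars false

namespace Cfsg.Agent.BpLieP.Psl

open Matrix Cfsg
open Cfsg.Agent.CpAut.Fix
open Cfsg.Agent.BpTab Cfsg.Agent.BpLieP.Base

section Psl

open Cfsg.Agent.ClassicalGeometry.AutPSL.Auto Cfsg.Agent.CpAut.Psl Cfsg.Agent.CpAut.PslRow

/-- **`PSL_n(q)`** -/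
theorem bpS_psl {F : Type} [Field F] [Fintype F] {p : ℕ} (hp : p.Prime) (hp2 : p ≠ 2) [CharP F p] {n : ℕ} (hn : 2 ≤ n)
    (h4 : n = 2 → 4 ≤ Fintype.card F) : BpS p (Matrix.ProjectiveSpecialLinearGroup (Fin n) F) := by
  have : Fact p.Prime := ⟨hp⟩
  have hsimple := isSimple (E := F) hn h4
  have hfilt : KFacts.RgdFilt.HasFilt p (Matrix.ProjectiveSpecialLinearGroup (Fin n) F) :=
    KFacts.RgdLieCharP.hasFilt_of_lie (Or.inl ⟨F, inferInstance, inferInstance, inferInstance, n, hn, h4,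
      ⟨MulEquiv.refl _⟩⟩)
  refine bpS_of_filt hfilt not_comm_quot ?_
  intro x hx hno
  have hx' : x ^ p = 1 := by rw [← hx]; exact pow_orderOf_eq_one x
  obtain ⟨A, σ, rfl⟩ := exists_of_odd hn (hp.odd_of_ne_two hp2) hx'
  have hσ : σ ≠ 1 := by
    rintro rfl
    apply hno
    rw [map_one, mul_one] at hx' ⊢
    exact inner_of_lin hn hx'
  have hchar : CharP ↥(fixf σ) p := charP_fixf σ
  have hfin : Fintype ↥(fixf σ) := Fintype.ofFinite _
  have hcard : 3 ≤ Fintype.card ↥(fixf σ) := CpAut.PspRow.card_ge hp hp2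
  have : Nontrivial (Fin n) := Fin.nontrivial_iff_two_le.2 hn
  obtain ⟨hord, B, hB⟩ := exists_conj hp hx' hσ
  have hS := sett (Fin n) σ
  have key : Good p ↥(fixedSubgroup (lift (fld σ) : MulAut (Matrix.ProjectiveSpecialLinearGroup (Fin n) F))) := by
    by_cases h5 : n = 2 → 4 ≤ Fintype.card ↥(fixf σ)
    · exact good_sett_of_simple hS (isSimple hn h5)
    · push Not at h5
      obtain ⟨rfl, h6⟩ := h5
      have h7 : Fintype.card ↥(fixf σ) = 3 := by omega
      have h8 : Group.IsSolvable (Matrix.SpecialLinearGroup (Fin 2) ↥(fixf σ)) :=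
        Cfsg.Agent.LieClassical.Order72.isSolvable_of_card_dvd (by
          rw [TwoFusion.SLTwoFacts.card_eq_24 h7]; norm_num)
      exact good_sett_of_solvable hS h8
  have e : ↥(fixedSubgroup (lift (cj A * fld σ))) ≃* ↥(fixedSubgroup (lift (fld σ) :
      MulAut (Matrix.ProjectiveSpecialLinearGroup (Fin n) F))) := by
    refine MulEquiv.trans (MulEquiv.subgroupCongr ?_) (fixedConj (lift (cj B)) (lift (fld σ))).symm
    rw [hB, map_mul, map_mul, map_inv]
  exact key.congr e.symm

end Psl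

section Psp

open Cfsg.Agent.ClassicalGeometry.SympAutSemi Cfsg.Agent.ClassicalGeometry.SympGamma
open Cfsg.Agent.CpAut.Psp Cfsg.Agent.CpAut.PspRow Cfsg.Agent.CpAut.SpLang

/-- **`PSp_2m(q)`** -/
theorem bpS_psp {F : Type} [Field F] [Fintype F] {p : ℕ} (hp : p.Prime) (hp2 : p ≠ 2) [CharP F p] {m : ℕ} (hm : 2 ≤ m) :
    BpS p (PSp m F) := by
  have : Fact p.Prime := ⟨hp⟩
  have h3 := card_ge (E := F) hp hp2
  have hsimple : IsSimpleGroup (PSp m F) := S0270.result m hm (fun _ => h3)
  have hfilt : KFacts.RgdFilt.HasFilt p (PSp m F) :=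
    KFacts.RgdLieCharP.hasFilt_of_lie (Or.inr (Or.inl ⟨F, inferInstance, inferInstance, inferInstance, m, hm,
      fun _ => h3, ⟨MulEquiv.refl _⟩⟩))
  refine bpS_of_filt hfilt not_comm_quot ?_
  intro x hx hno
  have hx' : x ^ p = 1 := by rw [← hx]; exact pow_orderOf_eq_one x
  obtain ⟨g, rfl⟩ := exists_semi hm (two_ne hp hp2) x
  obtain ⟨φ, l, hl, hg⟩ := g.2
  have hφ : φ ≠ 1 := by
    rintro rfl
    exact hno (inner_of_lin (by omega) hl hg hx')
  obtain ⟨-, h, hh⟩ := _root_.Cfsg.Agent.CpAut.Psp.exists_conj (by omega) hp hl hg hx' hφ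
  have hchar : CharP ↥(K0 φ) p := charP_K0 φ
  have hfin : Fintype ↥(K0 φ) := Fintype.ofFinite _
  rw [hh]
  refine Good.congr ?_ (fixedConj _ _)
  exact good_sett_of_simple (sett (by omega) φ) (S0270.result m hm (fun _ => card_ge hp hp2))

end Psp

end Cfsg.Agent.BpLieP.Psl

end

-- merged: Cfsg.Agent.BpLieP.Orth
section

/-!
# S1332: the orthogonal groups `PΩ(V, Q)`, `dim V ≥ 7`, in characteristic `p` odd

* `good` : the automorphisms of order `p` induced by semisimilitudes which are not inner;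
* `bpS_odd`, `bpS_plus` (`m ≥ 5`), `bpS_minus`.
-/

set_option autoImplicit false
set_option linter.unusedSectionVars false

namespace Cfsg.Agent.BpLieP.Orth

open QuadraticMap Cfsg
open Cfsg.Agent.LieClassical.OrthCore Cfsg.Agent.LieClassical.OrthTrans Cfsg.Agent.LieClassical.OrthForms
open Cfsg.Agent.LieClassical.OrthFinite
open Cfsg.Agent.ClassicalGeometry.OrthSemi
open Cfsg.Agent.ClassicalGeometry.OrthSemiForms
open Cfsg.Agent.CpAut Cfsg.Agent.CpAut.OrthMain
open Cfsg.Agent.CpAut.Descent (Semi)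
open Cfsg.Agent.CpAut.Psl (fixf mem_fixf)
open Cfsg.Agent.CpAut.Fix Cfsg.Agent.CpAut.Orth

/-- nondegenerate forms with a hyperbolic plane etc. -/
abbrev OGood {F V : Type*} [Field F] [AddCommGroup V] [Module F V] (Q : QuadraticForm F V) : Prop :=
  Cfsg.Agent.LieClassical.OrthTrans.Good Q

section aut

variable {F : Type} {V : Type*} [Field F] [Finite F] [AddCommGroup V] [Module F V] [Module.Finite F V]
  {Q : QuadraticForm F V}

/-- **The components of the fixed points.** -/
theorem good (hG : OGood Q) (hd : 7 ≤ Module.finrank F V) {p : ℕ} (hp : p.Prime) (hp2 : p ≠ 2) [CharP F p]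
    {x : MulAut (↥(E Q) ⧸ Subgroup.center ↥(E Q))} (hx : x ∈ (Psi Q).range) (hxp : orderOf x = p)
    (hno : x ∉ (MulAut.conj : ↥(E Q) ⧸ Subgroup.center ↥(E Q) →* _).range) : BpTab.Good p ↥(fixedSubgroup x) := by
  classical
  have : Fact p.Prime := ⟨hp⟩
  have hfinV : Finite V := Module.finite_of_finite F
  obtain ⟨M, rfl⟩ := hx
  obtain ⟨σ, l, hM⟩ := M.2
  have hx' : Psi Q M ^ p = 1 := by rw [← hxp]; exact pow_orderOf_eq_one _
  have hσ : σ ≠ 1 := by
    rintro rfl
    exact hno (inner_of_lin hG hp2 hM hx')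
  have h1 := hx'
  rw [← map_pow, ← MonoidHom.mem_ker, ker_Psi hG] at h1
  obtain ⟨a, ha⟩ := h1
  have ha' : (scal Q a).1 = M.1 ^ p := congrArg Subtype.val ha
  have hσp : σ ^ p = 1 := by
    have h2 := isSS_pow hM p
    rw [← ha'] at h2
    obtain ⟨τ, d, h3⟩ := (scal Q a).2
    have h4 : IsSS Q (1 : F ≃+* F) ((a : F) * a) (scal Q a).1 :=
      ⟨mul_ne_zero a.ne_zero a.ne_zero, fun u v => smul_add _ _ _, fun t v => smul_comm _ _ _, fun v => by
        change Q ((a : F) • v) = _
        rw [QuadraticMap.map_smul]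
        rfl⟩
    exact (isSS_unique (exists_ne hG) h2 h4).1
  have hord : orderOf σ = p := orderOf_eq_prime hσp hσ
  obtain ⟨v₀, hv₀⟩ := exists_ne hG
  obtain ⟨c, hc⟩ := Descent.exists_scale (toSemi hM) hord hp.pos a.ne_zero (fun v => by rw [← ha']; rfl)
    ⟨v₀, by rintro rfl; exact hv₀ (QuadraticMap.map_zero Q)⟩
  -- `N = c M`, `N ^ p = 1`
  obtain ⟨N, hN⟩ : ∃ N : Gam Q, N = scal Q c * M := ⟨_, rfl⟩
  have hNv : N.1 = Descent.scal V c * M.1 := by
    rw [hN]
    rfl
  have hNs : IsSS Q σ (c * c * l) N.1 := by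
    have hNv' : ∀ v, N.1 v = (c : F) • M.1 v := fun v => by rw [hNv]; rfl
    refine ⟨mul_ne_zero (mul_ne_zero c.ne_zero c.ne_zero) hM.ne, fun u v => ?_, fun x v => ?_, fun v => ?_⟩
    · rw [hNv', hNv', hNv', hM.add, smul_add]
    · rw [hNv', hNv', hM.smul, smul_comm]
    · rw [hNv', QuadraticMap.map_smul, hM.form, smul_eq_mul, mul_assoc ((c : F) * c)]
  have hNp : N.1 ^ p = 1 := by rw [hNv]; exact hc
  have h5 : Psi Q M = Psi Q N := by
    have h6 : Psi Q (scal Q c) = 1 := by
      rw [← MonoidHom.mem_ker, ker_Psi hG]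
      exact ⟨c, rfl⟩
    simp only [hN, map_mul, h6, one_mul]
  have h7 : ∏ i ∈ Finset.range p, (σ ^ i) ((c : F) * c * l) = 1 := by
    have h8 := isSS_pow hNs p
    rw [hNp] at h8
    exact (isSS_unique (exists_ne hG) h8 isSS_one).2
  obtain ⟨e, he, hle⟩ := Descent.hilbert90 hord hp.pos h7
  obtain ⟨b, hb⟩ := Descent.exists_basis (toSemi hNs) hord hp.pos hNp (ι := Fin (Module.finrank F V))
    (by rw [Fintype.card_fin])
  obtain ⟨Q₀, hQ₀⟩ := exists_form hNs hb he hle
  have h2 : (2 : F) ≠ 0 := PspRow.two_ne hp hp2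
  have hchar : CharP ↥(fixf σ) p := (RingHom.charP_iff (fixf σ).subtype (fixf σ).subtype.injective p).2 inferInstance
  have hfin : Fintype ↥(fixf σ) := Fintype.ofFinite _
  have hnd : Nondeg Q₀ := nondeg_zero hQ₀ hG.nondeg
  have hrk : Module.finrank (fixf σ) (Fin (Module.finrank F V) → fixf σ) = Module.finrank F V := by
    rw [Module.finrank_fintype_fun_eq_card, Fintype.card_fin]
  have hG₀ : OGood Q₀ := good_of_finite hnd (by omega)
  have hne : Nonempty (Fin (Module.finrank F V)) := ⟨⟨0, by omega⟩⟩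
  have hE : Finite (V ≃ₗ[F] V) := Finite.of_injective (fun g : V ≃ₗ[F] V => (g : V → V)) DFunLike.coe_injective
  rw [h5]
  have hfinι : Finite (Fin (Module.finrank F V) → fixf σ) := inferInstance
  have hE₀ : Finite ((Fin (Module.finrank F V) → fixf σ) ≃ₗ[fixf σ] (Fin (Module.finrank F V) → fixf σ)) :=
    Finite.of_injective (fun g : (Fin (Module.finrank F V) → fixf σ) ≃ₗ[fixf σ] (Fin (Module.finrank F V) → fixf σ) =>
      (g : (Fin (Module.finrank F V) → fixf σ) → (Fin (Module.finrank F V) → fixf σ))) DFunLike.coe_injective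
  exact Base.good_sett_of_simple (sett h2 hG hG₀ hNs hb he hQ₀)
    (Cfsg.Agent.LieClassical.OrthSimple.good_isSimpleGroup hG₀)

end aut

/-- The general statement. -/
theorem bpS_of_good {F : Type} [Field F] [Fintype F] {p : ℕ} (hp : p.Prime) (hp2 : p ≠ 2) [CharP F p] {ι : Type}
    [Fintype ι] [DecidableEq ι] {Q : QuadraticForm F (ι → F)} (hG : OGood Q) (hd : 7 ≤ Fintype.card ι)
    (hs : Function.Surjective (Psi Q))
    (hfilt : KFacts.RgdLieCharP.IsLieFilt p (↥(E Q) ⧸ Subgroup.center ↥(E Q))) : BpTab.BpS p (POmega F ⇑Q) := by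
  classical
  have : Fact p.Prime := ⟨hp⟩
  have hsimple : IsSimpleGroup (↥(E Q) ⧸ Subgroup.center ↥(E Q)) :=
    Cfsg.Agent.LieClassical.OrthSimple.good_isSimpleGroup hG
  have hE : Finite ((ι → F) ≃ₗ[F] (ι → F)) :=
    Finite.of_injective (fun g : (ι → F) ≃ₗ[F] (ι → F) => (g : (ι → F) → (ι → F))) DFunLike.coe_injective
  have hfin : Finite (POmega F ⇑Q) := Finite.of_equiv _ (pomegaEquiv hG).symm.toEquiv
  refine Base.bpS_congr (pomegaEquiv hG).symm (Base.bpS_of_filt (KFacts.RgdLieCharP.hasFilt_of_lie hfilt)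
    not_comm_quot ?_)
  intro x hx hno
  exact good hG (by rwa [Module.finrank_fintype_fun_eq_card]) hp hp2 (hs x) hx hno

/-- **The row `PΩ_{2m+1}(F)`.** -/
theorem bpS_odd {F : Type} [Field F] [Fintype F] {p : ℕ} (hp : p.Prime) (hp2 : p ≠ 2) [CharP F p] {m : ℕ}
    (hm : 3 ≤ m) : BpTab.BpS p (POmega F (quadFormOdd m F)) := by
  have h2 : (2 : F) ≠ 0 := PspRow.two_ne hp hp2
  have hodd : Odd (Fintype.card F) := Cfsg.Agent.LieClassical.PomegaCard.odd_card_iff.2 h2
  have hG : OGood (oddForm m F) := good_odd (by omega) h2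
  have e := (pomegaEquiv hG).symm
  have h1 := bpS_of_good hp hp2 hG (by
    rw [Fintype.card_sum, Fintype.card_sum, Fintype.card_fin, Fintype.card_unit]
    omega) (AutOrth.Final.surjective_odd hm h2) (by
      rw [coe_oddForm] at e
      exact Or.inr (Or.inr (Or.inr (Or.inl ⟨F, inferInstance, inferInstance, inferInstance, m, hm, hodd, ⟨e⟩⟩))))
  rwa [coe_oddForm] at h1

/-- **The row `PΩ⁺_{2m}(F)`, `m ≥ 5`.** -/
theorem bpS_plus {F : Type} [Field F] [Fintype F] {p : ℕ} (hp : p.Prime) (hp2 : p ≠ 2) [CharP F p] {m : ℕ}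
    (hm : 5 ≤ m) : BpTab.BpS p (POmega F (quadFormPlus m F)) := by
  have hG : OGood (plusForm m F) := good_plus (by omega)
  have e := (pomegaEquiv hG).symm
  have h1 := bpS_of_good hp hp2 hG (by
    rw [Fintype.card_sum, Fintype.card_fin]
    omega) (AutOrth.Final.surjective_plus hm) (by
      rw [coe_plusForm] at e
      exact Or.inr (Or.inr (Or.inr (Or.inr (Or.inl ⟨F, inferInstance, inferInstance, inferInstance, m, by omega,
        ⟨e⟩⟩)))))
  rwa [coe_plusForm] at h1

/-- **The row `PΩ⁻_{2m}(F)`.** -/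
theorem bpS_minus {F : Type} [Field F] [Fintype F] {p : ℕ} (hp : p.Prime) (hp2 : p ≠ 2) [CharP F p] {m : ℕ}
    (hm : 4 ≤ m) (a b : F) (hab : ∀ z₁ z₂ : F, z₁ ^ 2 + a * z₁ * z₂ + b * z₂ ^ 2 = 0 → z₁ = 0 ∧ z₂ = 0) :
    BpTab.BpS p (POmega F (quadFormMinus (m - 1) F a b)) := by
  have hG : OGood (minusForm (m - 1) F a b) := good_minus (by omega) a b hab
  have e := (pomegaEquiv hG).symm
  have h1 := bpS_of_good hp hp2 hG (by
    rw [Fintype.card_sum, Fintype.card_sum, Fintype.card_fin, Fintype.card_fin]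
    omega) (AutOrth.Final.surjective_minus (by omega) hab) (by
      rw [coe_minusForm] at e
      exact Or.inr (Or.inr (Or.inr (Or.inr (Or.inr (Or.inl ⟨F, inferInstance, inferInstance, inferInstance, m, a, b,
        hm, hab, ⟨e⟩⟩))))))
  rwa [coe_minusForm] at h1

end Cfsg.Agent.BpLieP.Orth

end

-- merged: Cfsg.Agent.BpLieP.Ht
section

/-!
# S1332: the subgroup generated by the root groups of height at least `3`

A root group datum with the Chevalley commutator formula `IntComm` all of whose roots have height at most `5`: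
`V = Sup X {z | 3 ≤ hgt z}` is an elementary abelian `p`-group normalised by `U` and by the automorphisms fixing `U`.
-/

set_option autoImplicit false
set_option linter.unusedSectionVars false

namespace Cfsg.Agent.BpLieP.Ht

open CoxeterSystem Cfsg.Agent.ChevalleyStructure.CoxeterGeom Cfsg.Agent.Tits.Roots Cfsg.Agent.Tits.Core
  Cfsg.Agent.Nodes.Reps Cfsg.Agent.Nodes.BNOf Cfsg.Agent.Nodes.Unique
  Cfsg.Agent.KFacts.RgdAut Cfsg.Agent.KFacts.RgdDiag Cfsg.Agent.KFacts.RgdBorelTits Cfsg.Agent.KFacts.RgdFilt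
open scoped commutatorElement

variable {I W Y : Type*} [Fintype I] [DecidableEq I] [Group W] [Group Y] {M : CoxeterMatrix I}
  {cs : CoxeterSystem M W} {A : I → I → ℤ} {h : IsCartan M A} {p : ℕ} {T : Subgroup Y} {n : I → Y}
  {X : (I → ℤ) → Subgroup Y}

/-- restriction of the commutator formula -/
theorem intComm_restrict (hX : IntComm cs h X) (K : Subgroup Y) (hK : ∀ x, IsRoot cs h x → X x ≤ K) :
    IntComm cs h (fun x => (X x).subgroupOf K) := by
  intro x y hx hy hxy hxy' a ha b hb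
  have h1 := hX x y hx hy hxy hxy' a ha b hb
  have h3 : FS (fun z => (X z).subgroupOf K) {z | IB cs h x y z} = (FS X {z | IB cs h x y z}).subgroupOf K := by
    unfold FS
    rw [Nodes.RGDLib.iSup_subgroupOf]
    rintro ⟨z, hz⟩
    exact hK z hz.1
  rw [h3, Subgroup.mem_subgroupOf]
  exact h1

/-- the height -/
def hgt (x : I → ℤ) : ℤ := ∑ i, x i

theorem hgt_add (x y : I → ℤ) : hgt (x + y) = hgt x + hgt y := Finset.sum_add_distrib

theorem hgt_smul (a : ℤ) (x : I → ℤ) : hgt (a • x) = a * hgt x := by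
  unfold hgt
  rw [Finset.mul_sum]
  rfl

theorem hgt_comp (σ : Equiv.Perm I) (x : I → ℤ) : hgt (x ∘ σ.symm) = hgt x := Equiv.sum_comp σ.symm x

/-- the roots of height at least `3` -/
def S3 (cs : CoxeterSystem M W) (h : IsCartan M A) : Set (I → ℤ) := {x | IsRoot cs h x ∧ 3 ≤ hgt x}

theorem hgt_pos {x : I → ℤ} (hx : x ∈ RGD.Pos cs h) : 1 ≤ hgt x := by
  have h1 : 0 ≤ hgt x := Finset.sum_nonneg fun i _ => hx.2 i
  rcases h1.lt_or_eq with h2 | h2
  · omega
  · exfalso
    have h3 : x = 0 := by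
      funext i
      exact (Finset.sum_eq_zero_iff_of_nonneg (fun i _ => hx.2 i)).1 h2.symm i (Finset.mem_univ i)
    exact hx.1.not_pos_neg hx.2 h3.le

theorem pos_of_mem [Finite W] {x : I → ℤ} (hx : x ∈ S3 cs h) : x ∈ RGD.Pos cs h := by
  refine ⟨hx.1, ?_⟩
  rcases hx.1.pos_or_neg with h1 | h1
  · exact h1
  · exfalso
    have h2 : hgt x ≤ 0 := Finset.sum_nonpos fun i _ => h1 i
    have := hx.2
    omega

theorem ib_hgt {x y z : I → ℤ} (hz : IB cs h x y z) (hx : 0 ≤ hgt x) (hy : 0 ≤ hgt y) : hgt x + hgt y ≤ hgt z := by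
  obtain ⟨-, i, j, hi, hj, rfl⟩ := hz
  rw [hgt_add, hgt_smul, hgt_smul]
  nlinarith only [hx, hy, hi, hj]

section Main

variable (R : RGD cs h p T n X) (hI : IntComm cs h X) (hmax : ∀ x, IsRoot cs h x → hgt x ≤ 5)

include hI in
theorem FS_le [Finite W] {x y : I → ℤ} (hx : x ∈ RGD.Pos cs h) (hy : y ∈ S3 cs h) :
    FS X {z | IB cs h x y z} ≤ RGD.Sup X (S3 cs h) := by
  refine iSup_le fun z => ?_
  obtain ⟨z, hz⟩ := z
  have h1 : IB cs h x y z := hz
  refine RGD.le_Sup (S := S3 cs h) ⟨h1.1, ?_⟩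
  have h2 := ib_hgt h1 (by have := hgt_pos hx; omega) (by have := hy.2; omega)
  have h3 := hgt_pos hx
  have h4 := hy.2
  show 3 ≤ hgt z
  omega

include hI hmax

/-- the root groups of `V` commute -/
theorem comm_S3 [Finite W] {x y : I → ℤ} (hx : x ∈ S3 cs h) (hy : y ∈ S3 cs h) (hxy : x ≠ y) {a b : Y} (ha : a ∈ X x)
    (hb : b ∈ X y) : a * b = b * a := by
  have hxy' : x ≠ -y := by
    intro e
    have h1 := hx.2
    have h2 := hy.2
    rw [e] at h1
    have h3 : hgt (-y) = -hgt y := by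
      unfold hgt
      rw [← Finset.sum_neg_distrib]
      rfl
    omega
  have h1 := hI x y hx.1 hy.1 hxy hxy' a ha b hb
  have h2 : FS X {z | IB cs h x y z} = ⊥ := by
    rw [eq_bot_iff]
    refine iSup_le fun z => ?_
    obtain ⟨z, hz⟩ := z
    exfalso
    have h3 : IB cs h x y z := hz
    have h4 := ib_hgt h3 (by have := hx.2; omega) (by have := hy.2; omega)
    have h5 := hmax z h3.1
    have h6 := hx.2
    have h7 := hy.2
    omega
  rw [h2, Subgroup.mem_bot, commutatorElement_eq_one_iff_mul_comm] at h1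
  exact h1

theorem V_comm [Finite W] (hab : ∀ z ∈ S3 cs h, ∀ a ∈ X z, ∀ b ∈ X z, a * b = b * a) :
    ∀ a ∈ RGD.Sup X (S3 cs h), ∀ b ∈ RGD.Sup X (S3 cs h), a * b = b * a := by
  have h1 : RGD.Sup X (S3 cs h) ≤ Subgroup.centralizer (RGD.Sup X (S3 cs h) : Set Y) := by
    refine RGD.Sup_le fun x hx => ?_
    rw [Subgroup.le_centralizer_iff]
    refine RGD.Sup_le fun y hy => ?_
    intro b hb
    rw [Subgroup.mem_centralizer_iff]
    intro a ha
    by_cases hxy : x = y
    · subst hxy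
      exact hab x hx a ha b hb
    · exact comm_S3 hI hmax hx hy hxy ha hb
  intro a ha b hb
  exact (Subgroup.mem_centralizer_iff.1 (h1 hb)) a ha

theorem V_exp [Finite W] (hab : ∀ z ∈ S3 cs h, ∀ a ∈ X z, ∀ b ∈ X z, a * b = b * a)
    (hexp : ∀ z ∈ S3 cs h, ∀ a ∈ X z, a ^ p = 1) : ∀ a ∈ RGD.Sup X (S3 cs h), a ^ p = 1 := by
  have hc := V_comm hI hmax hab
  let P : Subgroup Y :=
    { carrier := {a | a ∈ RGD.Sup X (S3 cs h) ∧ a ^ p = 1}
      mul_mem' := fun {a b} ha hb => ⟨mul_mem ha.1 hb.1, by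
        have h1 : Commute a b := hc a ha.1 b hb.1
        rw [h1.mul_pow, ha.2, hb.2, one_mul]⟩
      one_mem' := ⟨one_mem _, one_pow p⟩
      inv_mem' := fun {a} ha => ⟨inv_mem ha.1, by rw [inv_pow, ha.2, inv_one]⟩ }
  have h1 : RGD.Sup X (S3 cs h) ≤ P := RGD.Sup_le fun z hz a ha => ⟨RGD.le_Sup hz ha, hexp z hz a ha⟩
  exact fun a ha => (h1 ha).2

omit hmax in
/-- `U` normalises `V` -/
theorem U_le_normalizer [Finite W] : RGD.Sup X (RGD.Pos cs h) ≤
    Subgroup.normalizer (RGD.Sup X (S3 cs h) : Set Y) := by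
  refine RGD.Sup_le fun y hy => ?_
  apply Cfsg.Agent.S0058.le_normalizer_of_conj_mem
  intro b hb v hv
  have h1 : RGD.Sup X (S3 cs h) ≤ (RGD.Sup X (S3 cs h)).comap (MulAut.conj b).toMonoidHom := by
    refine RGD.Sup_le fun z hz a ha => ?_
    rw [Subgroup.mem_comap]
    show b * a * b⁻¹ ∈ _
    by_cases hyz : y = z
    · subst hyz
      exact RGD.le_Sup hz (mul_mem (mul_mem hb ha) (inv_mem hb))
    · have hyz' : y ≠ -z := by
        intro e
        exact hy.1.not_pos_neg hy.2 (by rw [e]; exact neg_nonpos.2 (pos_of_mem hz).2)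
      have h2 := FS_le hI hy hz (hI y z hy.1 hz.1 hyz hyz' b hb a ha)
      have h3 : b * a * b⁻¹ = ⁅b, a⁆ * a := by rw [commutatorElement_def]; group
      rw [h3]
      exact mul_mem h2 (RGD.le_Sup hz ha)
  exact h1 hv

omit hmax in
/-- the automorphisms fixing `U` act on `V` -/
theorem map_V [Finite W] (R : RGD cs h p T n X) {α : MulAut Y} {u : Y} (hu : u ∈ RGD.Sup X (RGD.Pos cs h))
    {σ : Equiv.Perm I} (D : Diag T X (MulAut.conj u * α) σ) (hA : ∀ i j, A (σ i) (σ j) = A i j) :
    ∀ v ∈ RGD.Sup X (S3 cs h), α v ∈ RGD.Sup X (S3 cs h) := by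
  intro v hv
  have h1 : RGD.Sup X (S3 cs h) ≤ (RGD.Sup X (S3 cs h)).comap (MulAut.conj u * α).toMonoidHom := by
    refine RGD.Sup_le fun z hz a ha => ?_
    have h2 := (D.root_comp R hA hz.1 a).2 ha
    refine RGD.le_Sup (S := S3 cs h) ⟨?_, ?_⟩ h2
    · obtain ⟨w, i, rfl⟩ := hz.1
      rw [← rep_hat (D.matrix R) hA, sr_comp]
      exact ⟨_, _, rfl⟩
    · rw [hgt_comp]
      exact hz.2
  have h3 : u * α v * u⁻¹ ∈ RGD.Sup X (S3 cs h) := h1 hv
  exact (Subgroup.mem_normalizer_iff.1 (U_le_normalizer hI hu) _).2 h3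

end Main

/-- **The main statement.** -/
theorem good_of_tw [Finite W] [Finite Y] [IsSimpleGroup Y] [Fact p.Prime] (R : RGD cs h p T n X)
    (hI : IntComm cs h X) (hmax : ∀ x, IsRoot cs h x → hgt x ≤ 5) (hfilt : HasFilt p Y)
    (hc : ∃ a b : Y, a * b ≠ b * a)
    (hab : ∀ z ∈ S3 cs h, ∀ a ∈ X z, ∀ b ∈ X z, a * b = b * a) (hexp : ∀ z ∈ S3 cs h, ∀ a ∈ X z, a ^ p = 1)
    {s : Finset (I → ℤ)} (hs : (s : Set (I → ℤ)) = S3 cs h) (hcl : Closed cs h (s : Set (I → ℤ)))
    (hcard : p ^ p < ∏ x ∈ s, Nat.card ↥(X x)) {x : MulAut Y} (hx : x ^ p = 1) {g u : Y} {σ : Equiv.Perm I}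
    (hA : ∀ i j, A (σ i) (σ j) = A i j) (hu : u ∈ RGD.Sup X (RGD.Pos cs h))
    (D : Diag T X (MulAut.conj u * ((MulAut.conj g)⁻¹ * x * MulAut.conj g)) σ) :
    BpTab.Good p ↥(fixedSubgroup x) := by
  have hsub : (s : Set (I → ℤ)) ⊆ RGD.Pos cs h := by
    rw [hs]
    exact fun z hz => pos_of_mem hz
  have h1 := Nodes.CardSup.card_sup R hsub hcl
  rw [hs] at h1
  have hx' : ((MulAut.conj g)⁻¹ * x * MulAut.conj g) ^ p = 1 := by
    have h2 := CpAut.RgdCoh.pow_conj_eq_one (δ := (MulAut.conj g)⁻¹) hx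
    rwa [inv_inv] at h2
  have h2 := Big.good_of_big hfilt hc hx' (RGD.Sup X (S3 cs h)) (map_V hI R hu D hA) (V_comm hI hmax hab)
    (V_exp hI hmax hab hexp) (by rw [h1]; exact hcard)
  have e := CpAut.Fix.fixedConj (MulAut.conj g) ((MulAut.conj g)⁻¹ * x * MulAut.conj g)
  have h3 : MulAut.conj g * ((MulAut.conj g)⁻¹ * x * MulAut.conj g) * (MulAut.conj g)⁻¹ = x := by group
  rw [h3] at e
  exact h2.congr e

end Cfsg.Agent.BpLieP.Ht

end

-- merged: Cfsg.Agent.BpLieP.Tw
section

/-!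
# S1332: `²E₆(q)` in characteristic `p` odd

* `good_of_DD` : the fixed points of a frame automorphism of order `p`;
* `bpS_twistedE6`.
-/

set_option autoImplicit false
set_option linter.unusedSectionVars false
set_option maxHeartbeats 400000

namespace Cfsg.Agent.BpLieP.Tw

open CoxeterSystem Cfsg.Agent.ChevalleyStructure.CoxeterGeom Cfsg.Agent.Tits.Roots Cfsg.Agent.Tits.Core
  Cfsg.Agent.Tits.Exchange Cfsg.Agent.Nodes.Reps Cfsg.Agent.Nodes.BNOf Cfsg.Agent.Nodes.StabComb
  Cfsg.Agent.Nodes.Bruhat Cfsg.Agent.Nodes.OppDec Cfsg.Agent.Nodes.RGDTwGen Cfsg.Agent.Nodes.RGDChev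
  Cfsg.Agent.Nodes.RGDFold Cfsg.Agent.Nodes.RGDFoldSL
open Cfsg.Agent.KFacts.RgdOpp Cfsg.Agent.KFacts.RgdAut Cfsg.Agent.KFacts.RgdDiag Cfsg.Agent.KFacts.RgdRigid
  Cfsg.Agent.KFacts.RgdField Cfsg.Agent.KFacts.RgdTau Cfsg.Agent.KFacts.RgdNodes
open Cfsg.Lie Cfsg.Agent.ChevalleyStructure Cfsg.Agent.ChevalleyStructure.Elts Cfsg.Agent.ChevStructure.FieldMap
open Cfsg.Agent.ChevalleyStructure.SL2Hom (up lo)
open Cfsg.Agent.KFacts.TwESix.NodeCoord Cfsg.Agent.KFacts.TwESix.Out Cfsg.Agent.KFacts.TwESix.OutTwo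
open Cfsg.Agent.Nodes.RGDTwE6 Cfsg.Agent.Nodes.RGDTwNode.E6
open Cfsg.Agent.ChevalleyStructure.TwE6Basic (hE6 single_mem pair_mem twisted_le_iff exists_frob)
open Cfsg.Agent.CpAut Cfsg.Agent.CpAut.RgdFix Cfsg.Agent.CpAut.RgdCoh Cfsg.Agent.CpAut.RgdConj Cfsg.Agent.CpAut.RgdSub
  Cfsg.Agent.CpAut.RgdTwStd Cfsg.Agent.CpAut.RgdTwE6
open Cfsg.Agent.BpTab Cfsg.Agent.BpLieP.Base

universe u

section DD

variable {I W : Type*} {Y : Type u} [Fintype I] [DecidableEq I] [Group W] [Group Y] {M : CoxeterMatrix I}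
  {cs : CoxeterSystem M W} {A : I → I → ℤ} {h : IsCartan M A} {p : ℕ} {T : Subgroup Y} {n : I → Y}
  {X : (I → ℤ) → Subgroup Y}

/-- the fixed points of a frame automorphism of order `p` -/
theorem good_of_DD (R : RGD cs h p T n X) [Finite W] [Finite Y] [Fact p.Prime]
    (hG1 : RGD.Sup X {x | IsRoot cs h x} = ⊤) {φ : MulAut Y} (D : Diag T X φ 1) (hφ : φ ^ p = 1)
    (hC : _root_.Cfsg.Agent.BpTab.Good p ↥(DD cs h X φ)) : _root_.Cfsg.Agent.BpTab.Good p ↥(fixedSubgroup φ) := by
  have hφ' : φ ^ p ^ 1 = 1 := by rw [pow_one]; exact hφ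
  have hN := DD_normal R (GG_eq_top (T := T) hG1) D hφ'
  exact good_of_normal_coprime Fact.out ((DD cs h X φ).subgroupOf (fixedSubgroup φ))
    (_root_.Cfsg.Agent.CpAut.RgdFix.not_dvd_index R (GG_eq_top (T := T) hG1) D hφ') (hC.congr (Subgroup.subgroupOfEquivOfLe DD_le_fix).symm)

end DD

/-- the fixed field -/
theorem simple_sub {K : Type u} [Field K] [Fintype K] (p : ℕ) [Fact p.Prime] [CharP K p] (hp2 : p ≠ 2) {q : ℕ}
    (hq : IsPrimePow q) (hK : Fintype.card K = q ^ 2) {τ : K ≃+* K} (hτ : τ ^ p = 1) (hτ1 : τ ≠ 1) :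
    IsSimpleGroup ↥(twistedE6 ↥(fixF τ) q) := by
  have hp : p.Prime := Fact.out
  have hk := card_fixF hp hτ hτ1
  have := Fintype.ofFinite ↥(fixF τ)
  obtain ⟨q', hq', h1, h2⟩ := exists_root (n := 2) hp Nat.prime_two hp2 hq (k := Nat.card ↥(fixF τ))
    Finite.one_lt_card (by rw [← hk, Nat.card_eq_fintype_card, hK])
  obtain ⟨j, hj⟩ := hp.odd_of_ne_two hp2
  have h3 : ∀ t : ↥(fixF τ), t ^ q = t ^ q' := by
    intro t
    have h4 : t ^ (q' ^ 2) = t := by
      rw [← h1, Nat.card_eq_fintype_card]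
      exact FiniteField.pow_card t
    rw [h2, hj, pow_succ, pow_mul, pow_mul q' 2 j, pow_iter h4 j]
  rw [tw_congr h3]
  have hK' : Fintype.card ↥(fixF τ) = q' ^ 2 := by rw [← Nat.card_eq_fintype_card, h1]
  exact (Cfsg.Agent.S1070.result hq' hK').1

/-- **`²E₆(q)` in odd characteristic `p`.** -/
theorem bpS_twistedE6 {K : Type} [Field K] [Fintype K] (p : ℕ) [Fact p.Prime] [CharP K p] (hp2 : p ≠ 2) {q : ℕ}
    (hq : IsPrimePow q) (hK : Fintype.card K = q ^ 2) : BpS p ↥(twistedE6 K q) := by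
  intro x hx
  have hp : p.Prime := Fact.out
  obtain ⟨φ, hφ, hqq⟩ := exists_frob hq hK
  have hW : Finite CoxeterMatrix.F₄.Group :=
    Nodes.RGDFold.finite_W (hp := Nodes.RGDTwE6.hp) CoxeterMatrix.F₄.toCoxeterSystem Nodes.RGDTwE6.isCartan
      Nodes.RGDTwE6.foldData
  obtain ⟨cs, hcs⟩ : ∃ cs : CoxeterSystem CoxeterMatrix.F₄ CoxeterMatrix.F₄.Group, cs = cs := ⟨CoxeterMatrix.F₄.toCoxeterSystem, rfl⟩
  have R := Cfsg.Agent.Nodes.RGDTwE6.rgd cs hφ hqq p
  have hG1 := G1_top cs hφ hqq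
  obtain ⟨hs, hna⟩ := Cfsg.Agent.S1070.result hq hK
  have hc : ∃ a b : ↥(twistedE6 K q), a * b ≠ b * a := by
    by_contra hcon
    push Not at hcon
    exact hna ⟨⟨hcon⟩⟩
  have hxp : x ^ p = 1 := by rw [← hx, pow_orderOf_eq_one]
  have hτ : ∀ (β : MulAut ↥(twistedE6 K q)) (τ' : ∀ i, KF φ i ≃+* KF φ i),
      NTau (T K q) (X φ q) (chE hφ hqq) β τ' → β ^ p = 1 →
      ∃ τ : K ≃+* K, τ' = rs hφ τ ∧ τ ^ p = 1 := by
    intro β τ' S hβ
    obtain ⟨τ, S'⟩ := exists_ftau hφ hqq cs p S.diag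
    refine ⟨τ, NTau.unique (coordE hφ hqq) S (ntau_of_ftau hφ hqq S'), ?_⟩
    have h2 := ftau_pow hφ hqq S' p
    rw [hβ] at h2
    exact FTau.unique hφ hqq h2 (FTau.one hφ hqq)
  have hrs1 : rs hφ (1 : K ≃+* K) = 1 := by
    funext i
    ext a
    rfl
  rcases RgdNConj.inner_or_conj R hG1 (coordE hφ hqq) (fun σ hσ hσ' _ => by
      apply perm_F4 σ hσ
      intro h3
      have h4 := hσ' 0
      rw [h3] at h4
      exact card_ne hφ hqq hK hq.one_lt h4) (fun β τ' S hβ => by
      obtain ⟨τ, rfl, hτp⟩ := hτ β τ' S hβ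
      by_cases h1 : τ = 1
      · left
        rw [h1, hrs1]
      · right
        exact fun i hi => h1 (eq_one_of_rs hφ hqq hp hp2 hτp i hi)) hxp with ⟨g, rfl⟩ | ⟨β, τ', S, hβ, hτ1, h1⟩
  · exact good_conj (KFacts.RgdFiltTwAll.hasFilt_E6 hq hK p) hc hx
  · obtain ⟨τ, rfl, hτp⟩ := hτ β τ' S hβ
    have hτ1' : τ ≠ 1 := by
      rintro rfl
      exact hτ1 hrs1
    obtain ⟨e, he⟩ := h1 (st q τ) (st_pow τ hτp) (ntau_st hφ hqq τ cs p)
    obtain ⟨f⟩ := DD_equiv hφ hqq τ cs p (m := 1) (by rw [pow_one]; exact hτp)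
    have hfin : Finite ↥(twistedE6 ↥(fixF τ) q) := Finite.of_equiv _ f.toEquiv
    have h2 : _root_.Cfsg.Agent.BpTab.Good p ↥(fixedSubgroup (st q τ)) :=
      good_of_DD R hG1 (ntau_st hφ hqq τ cs p).diag (st_pow τ hτp)
        ((good_of_simple (simple_sub p hp2 hq hK hτp hτ1')).congr f.symm)
    have h3 : MulAut.congr e (st q τ) = x := by
      rw [he]
      ext y
      rfl
    rw [← h3]
    exact h2.congr (fixEquiv e (st q τ))

end Cfsg.Agent.BpLieP.Tw

end

-- merged: Cfsg.Agent.BpLieP.TwD4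
section

/-!
# S1332: `³D₄(q)` in characteristic `p ≥ 5`

* `bpS_twistedD4` : `BpS p ³D₄(q)` for `p ≠ 2, 3`.
-/

set_option autoImplicit false
set_option linter.unusedSectionVars false
set_option maxHeartbeats 400000

namespace Cfsg.Agent.BpLieP.TwD4

open CoxeterSystem Cfsg.Agent.ChevalleyStructure.CoxeterGeom Cfsg.Agent.Tits.Roots Cfsg.Agent.Tits.Core
  Cfsg.Agent.Tits.Exchange Cfsg.Agent.Nodes.Reps Cfsg.Agent.Nodes.BNOf Cfsg.Agent.Nodes.StabComb
  Cfsg.Agent.Nodes.Bruhat Cfsg.Agent.Nodes.OppDec Cfsg.Agent.Nodes.RGDTwGen Cfsg.Agent.Nodes.RGDChev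
  Cfsg.Agent.Nodes.RGDFold Cfsg.Agent.Nodes.RGDFoldSL
open Cfsg.Agent.KFacts.RgdOpp Cfsg.Agent.KFacts.RgdAut Cfsg.Agent.KFacts.RgdDiag Cfsg.Agent.KFacts.RgdRigid
  Cfsg.Agent.KFacts.RgdField Cfsg.Agent.KFacts.RgdTau Cfsg.Agent.KFacts.RgdNodes
open Cfsg.Lie Cfsg.Agent.ChevalleyStructure Cfsg.Agent.ChevalleyStructure.Elts Cfsg.Agent.ChevStructure.FieldMap
open Cfsg.Agent.ChevalleyStructure.SL2Hom (up lo)
open Cfsg.Agent.ChevalleyStructure.SignedSymm
open Cfsg.Agent.KFacts.TwDFour.Out
open Cfsg.Agent.Nodes.RGDTwD4 Cfsg.Agent.Nodes.RGDTwNode.D4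
open Cfsg.Agent.ParSys.Fam.D4 (hf)
open Cfsg.Agent.CpAut Cfsg.Agent.CpAut.RgdFix Cfsg.Agent.CpAut.RgdCoh Cfsg.Agent.CpAut.RgdConj Cfsg.Agent.CpAut.RgdSub
  Cfsg.Agent.CpAut.RgdTwStd Cfsg.Agent.CpAut.RgdTwD4
open Cfsg.Agent.BpTab Cfsg.Agent.BpLieP.Base

universe u

/-- the fixed field -/
theorem simple_sub {K : Type u} [Field K] [Fintype K] (p : ℕ) [Fact p.Prime] [CharP K p] (hp3 : p ≠ 3)
    {q : ℕ} (hq : IsPrimePow q) (hK : Fintype.card K = q ^ 3) {τ : K ≃+* K} (hτ : τ ^ p = 1) (hτ1 : τ ≠ 1) :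
    IsSimpleGroup ↥(twistedD4 ↥(fixF τ) q) := by
  have hp : p.Prime := Fact.out
  have hk := card_fixF hp hτ hτ1
  have := Fintype.ofFinite ↥(fixF τ)
  obtain ⟨q', hq', h1, h2⟩ := exists_root (n := 3) hp Nat.prime_three hp3 hq (k := Nat.card ↥(fixF τ))
    Finite.one_lt_card (by rw [← hk, Nat.card_eq_fintype_card, hK])
  have h4 : ∀ t : ↥(fixF τ), t ^ (q' ^ 3) = t := by
    intro t
    rw [← h1, Nat.card_eq_fintype_card]
    exact FiniteField.pow_card t
  have hK' : Fintype.card ↥(fixF τ) = q' ^ 3 := by rw [← Nat.card_eq_fintype_card, h1]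
  obtain ⟨hs, hna⟩ := Cfsg.Agent.S1071.result hq' hK'
  have hmod : p % 3 = 1 ∨ p % 3 = 2 := by
    have h0 : p % 3 ≠ 0 := fun h => hp3 ((Nat.prime_dvd_prime_iff_eq Nat.prime_three hp).1
      (Nat.dvd_of_mod_eq_zero h)).symm
    omega
  have hdm := Nat.div_add_mod p 3
  rcases hmod with hm | hm
  · have h3 : ∀ t : ↥(fixF τ), t ^ q = t ^ q' := by
      intro t
      rw [h2, ← hdm, hm, pow_succ, pow_mul, pow_mul q' 3, pow_iter (h4 t)]
    rw [tw_congr h3]
    exact hs
  · have h3 : ∀ t : ↥(fixF τ), t ^ q = t ^ (q' ^ 2) := by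
      intro t
      rw [h2, ← hdm, hm, pow_add, pow_mul, pow_mul q' 3, pow_iter (h4 t)]
    have h5 : ∀ t : ↥(fixF τ), (t ^ q) ^ q = t ^ q' := by
      intro t
      rw [h3, h3, ← pow_mul]
      have e : q' ^ 2 * q' ^ 2 = q' ^ 3 * q' := by ring
      rw [e, pow_mul, h4]
    have h6 : ∀ t : ↥(fixF τ), (t ^ q') ^ q' = t ^ q := by
      intro t
      rw [h3, ← pow_mul, ← pow_two]
    obtain ⟨f⟩ := swap_equiv h5 h6
    exact (CpQuot.Congr.isSimple_iff f).2 hs

/-- **`³D₄(q)` in characteristic `p ≥ 5`.** -/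
theorem bpS_twistedD4 {K : Type} [Field K] [Fintype K] (p : ℕ) [Fact p.Prime] [CharP K p]
    (hp3 : p ≠ 3) {q : ℕ} (hq : IsPrimePow q) (hK : Fintype.card K = q ^ 3) : BpS p ↥(twistedD4 K q) := by
  intro x hx
  have hp : p.Prime := Fact.out
  obtain ⟨φ, hφ⟩ := D4Fixed.exists_frob hq hK
  obtain ⟨cs, hcs⟩ : ∃ cs : CoxeterSystem CoxeterMatrix.G₂ CoxeterMatrix.G₂.Group, cs = cs :=
    ⟨CoxeterMatrix.G₂.toCoxeterSystem, rfl⟩
  have hW : Finite CoxeterMatrix.G₂.Group := finiteW cs
  have R := Cfsg.Agent.Nodes.RGDTwD4.rgd cs hK hφ p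
  have hG1 : RGD.Sup (X φ q) {x | IsRoot cs isCartan x} = ⊤ := _root_.Cfsg.Agent.Nodes.RGDTwD4.G1_eq_top cs hK hφ
  obtain ⟨hs, hna⟩ := Cfsg.Agent.S1071.result hq hK
  have hc : ∃ a b : ↥(twistedD4 K q), a * b ≠ b * a := by
    by_contra hcon
    push Not at hcon
    exact hna ⟨⟨hcon⟩⟩
  have hxp : x ^ p = 1 := by rw [← hx, pow_orderOf_eq_one]
  have hτ : ∀ (β : MulAut ↥(twistedD4 K q)) (τ' : ∀ i, KD φ i ≃+* KD φ i),
      NTau (T K q) (X φ q) (chD hφ hK) β τ' → β ^ p = 1 →
      ∃ τ : K ≃+* K, τ' = rs hφ τ ∧ τ ^ p = 1 := by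
    intro β τ' S hβ
    obtain ⟨τ, S'⟩ := exists_dtau hφ hK cs p S.diag
    refine ⟨τ, NTau.unique (coordD hφ hK) S (ntau_of_dtau hφ hK S'), ?_⟩
    have h2 := dtau_pow hφ hK S' p
    rw [hβ] at h2
    exact DTau.unique hφ hK h2 (DTau.one hφ hK)
  have hrs1 : rs hφ (1 : K ≃+* K) = 1 := by
    funext i
    ext a
    rfl
  rcases RgdNConj.inner_or_conj R hG1 (coordD hφ hK) (fun σ hσ hσ' _ => by
      apply perm_G2 σ
      intro h3
      have h4 := hσ' 0
      rw [h3] at h4
      exact card_ne hφ hK hq.one_lt h4) (fun β τ' S hβ => by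
      obtain ⟨τ, rfl, hτp⟩ := hτ β τ' S hβ
      by_cases h1 : τ = 1
      · left
        rw [h1, hrs1]
      · right
        exact fun i hi => h1 (eq_one_of_rs hφ hK hp hp3 hτp i hi)) hxp with ⟨g, rfl⟩ | ⟨β, τ', S, hβ, hτ1, h1⟩
  · exact good_conj (KFacts.RgdFiltTwAll.hasFilt_D4 hq hK p) hc hx
  · obtain ⟨τ, rfl, hτp⟩ := hτ β τ' S hβ
    have hτ1' : τ ≠ 1 := by
      rintro rfl
      exact hτ1 hrs1
    obtain ⟨e, he⟩ := h1 (st q τ) (st_pow τ hτp) (ntau_st hφ hK τ cs p)
    obtain ⟨f⟩ := DD_equiv hφ hK τ cs p (m := 1) (by rw [pow_one]; exact hτp)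
    have hfin : Finite ↥(twistedD4 ↥(fixF τ) q) := Finite.of_equiv _ f.toEquiv
    have h2 : _root_.Cfsg.Agent.BpTab.Good p ↥(fixedSubgroup (st q τ)) :=
      Tw.good_of_DD R hG1 (ntau_st hφ hK τ cs p).diag (st_pow τ hτp)
        ((good_of_simple (simple_sub p hp3 hq hK hτp hτ1')).congr f.symm)
    have h3 : MulAut.congr e (st q τ) = x := by
      rw [he]
      ext y
      rfl
    rw [← h3]
    exact h2.congr (fixEquiv e (st q τ))

end Cfsg.Agent.BpLieP.TwD4

end

-- merged: Cfsg.Agent.BpLieP.Tri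
section

/-!
# S1332: `D₄(q)` and `³D₄(q)` in characteristic `3`, all automorphisms of order `3`

* `bpS_D4_three`, `bpS_twistedD4_three`.
-/

set_option autoImplicit false
set_option linter.unusedSectionVars false

namespace Cfsg.Agent.BpLieP.Tri

open CoxeterSystem Cfsg.Agent.ChevalleyStructure.CoxeterGeom Cfsg.Agent.Tits.Roots Cfsg.Agent.Tits.Core
  Cfsg.Agent.Nodes.Reps Cfsg.Agent.Nodes.BNOf Cfsg.Agent.Nodes.Unique Cfsg.Agent.Nodes.OppDec
  Cfsg.Agent.KFacts.RgdAut Cfsg.Agent.KFacts.RgdDiag Cfsg.Agent.KFacts.RgdBorelTits Cfsg.Agent.KFacts.RgdFilt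
  Cfsg.Agent.KFacts.RgdField Cfsg.Agent.KFacts.RgdTau Cfsg.Agent.KFacts.RgdRigid
  Cfsg.Agent.CpAut.RgdConj Cfsg.Agent.CpAut.RgdCoh Cfsg.Agent.BpLieP.Ht
open Cfsg.Lie Cfsg.Agent.ChevalleyStructure

universe u

/-! ### root groups -/

section Coord

variable {Y F : Type*} [Group Y] [Field F] {T P : Subgroup Y} {x : F → Y} {χ : Y → F}

theorem coord_comm (C : Coord T P x χ) : ∀ a ∈ P, ∀ b ∈ P, a * b = b * a := by
  intro a ha b hb
  obtain ⟨s, rfl⟩ := (C.mem a).1 ha
  obtain ⟨t, rfl⟩ := (C.mem b).1 hb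
  rw [← C.add, ← C.add, add_comm]

theorem coord_exp {p : ℕ} [CharP F p] (C : Coord T P x χ) : ∀ a ∈ P, a ^ p = 1 := by
  intro a ha
  obtain ⟨s, rfl⟩ := (C.mem a).1 ha
  have h1 : ∀ k : ℕ, x s ^ k = x ((k : F) * s) := by
    intro k
    induction k with
    | zero => rw [pow_zero, Nat.cast_zero, zero_mul, C.zero]
    | succ k ih => rw [pow_succ, ih, ← C.add, Nat.cast_succ, add_mul, one_mul]
  rw [h1, CharP.cast_eq_zero, zero_mul, C.zero]

theorem coord_card (C : Coord T P x χ) : Nat.card ↥P = Nat.card F := by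
  symm
  refine Nat.card_congr (Equiv.ofBijective (fun a => (⟨x a, (C.mem _).2 ⟨a, rfl⟩⟩ : ↥P)) ⟨?_, ?_⟩)
  · intro a b hab
    exact C.inj (congrArg Subtype.val hab)
  · rintro ⟨y, hy⟩
    obtain ⟨a, rfl⟩ := (C.mem y).1 hy
    exact ⟨a, rfl⟩

end Coord

/-! ### closed sets -/

section Closed

variable {I W : Type*} [Fintype I] [DecidableEq I] [Group W] {M : CoxeterMatrix I}
  {cs : CoxeterSystem M W} {A : I → I → ℤ} {h : IsCartan M A}

/-- a linear functional -/
def L (c x : I → ℤ) : ℤ := ∑ i, c i * x i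

theorem L_add (c x y : I → ℤ) : L c (x + y) = L c x + L c y := by
  unfold L
  rw [← Finset.sum_add_distrib]
  exact Finset.sum_congr rfl fun i _ => by rw [Pi.add_apply, mul_add]

theorem L_smul (c : I → ℤ) (a : ℤ) (x : I → ℤ) : L c (a • x) = a * L c x := by
  unfold L
  rw [Finset.mul_sum]
  exact Finset.sum_congr rfl fun i _ => by rw [Pi.smul_apply, smul_eq_mul]; ring

theorem closed_of {S : Set (I → ℤ)} {c c' c'' : I → ℤ}
    (hS : ∀ z, z ∈ S ↔ IsRoot cs h z ∧ 0 ≤ L c z ∧ 0 ≤ L c' z ∧ 0 < L c'' z) : Closed cs h S := by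
  intro x hx y hy z hz
  obtain ⟨-, h1, h2, h3⟩ := (hS x).1 hx
  obtain ⟨-, h1', h2', h3'⟩ := (hS y).1 hy
  obtain ⟨hz1, k, a, b, hk, ha, hb, e⟩ := hz
  refine (hS z).2 ⟨hz1, ?_, ?_, ?_⟩
  · have e1 := congrArg (L c) e
    rw [L_add, L_smul, L_smul, L_smul] at e1
    have e2 : 0 ≤ k * L c z := by rw [e1]; (clear * - h1 h1' ha hb; positivity)
    exact nonneg_of_mul_nonneg_right e2 hk
  · have e1 := congrArg (L c') e
    rw [L_add, L_smul, L_smul, L_smul] at e1
    have e2 : 0 ≤ k * L c' z := by rw [e1]; (clear * - h2 h2' ha hb; positivity)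
    exact nonneg_of_mul_nonneg_right e2 hk
  · have e1 := congrArg (L c'') e
    rw [L_add, L_smul, L_smul, L_smul] at e1
    have e2 : 0 < k * L c'' z := by rw [e1]; positivity
    exact pos_of_mul_pos_right e2 hk.le

end Closed

/-! ### `D₄` -/

section D4

open Cfsg.Agent.Nodes.RGDChev Cfsg.Agent.KFacts.RgdChevCoord Cfsg.Agent.CpAut.RgdD4

theorem hgt_le_D4 : ∀ r < chevD4.nroots, hgt (vec chevD4 4 r) ≤ 5 := by decide +kernel

/-- the roots of height at least `3` -/
def sD4 : Finset (Fin 4 → ℤ) := ((Finset.range chevD4.nroots).image (vec chevD4 4)).filter fun z => 3 ≤ hgt z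

theorem card_sD4 : sD4.card = 5 := by decide +kernel

theorem mem_sD4 {W : Type*} [Group W] (cs : CoxeterSystem coxeterD4 W) (z : Fin 4 → ℤ) :
    z ∈ sD4 ↔ IsRoot cs hp.isCartan z ∧ 3 ≤ hgt z := by
  rw [sD4, Finset.mem_filter, Finset.mem_image, isRoot_iff hp cs z]
  refine and_congr_left fun _ => ?_
  constructor
  · rintro ⟨r, hr, e⟩
    exact ⟨r, Finset.mem_range.1 hr, e⟩
  · rintro ⟨r, hr, e⟩
    exact ⟨r, Finset.mem_range.2 hr, e⟩

theorem cone_D4 : ∀ r < chevD4.nroots, 3 ≤ hgt (vec chevD4 4 r) ↔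
    (0 ≤ L ![-1, 3, -1, -1] (vec chevD4 4 r) ∧ 0 ≤ L ![2, -3, 2, 2] (vec chevD4 4 r) ∧
      0 < L ![1, 1, 1, 1] (vec chevD4 4 r)) := by decide +kernel

set_option backward.isDefEq.respectTransparency false in
theorem cartan_sym : ∀ σ : Equiv.Perm (Fin 4), (∀ i j, coxeterD4 (σ i) (σ j) = coxeterD4 i j) →
    ∀ i j, CoxeterGeomTypes.cartanOf chevD4 4 (σ i) (σ j) = CoxeterGeomTypes.cartanOf chevD4 4 i j := by
  decide +kernel

/-- **`D₄(q)`, `q` a power of `3`, all automorphisms of order `3`.** -/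
theorem bpS_D4_three {K : Type u} [Field K] [Fintype K] [CharP K 3] : BpTab.BpS 3 ↥(chevD4.group K) := by
  intro x hx
  obtain ⟨hs, hc⟩ := simple_D4 (F := K)
  have hW := finite_W hp (coxeterD4.toCoxeterSystem)
  have R := rgd (K := K) hp coxeterD4.toCoxeterSystem 3
  have hG1 : RGD.Sup (XX chevD4 4 K) {x | IsRoot coxeterD4.toCoxeterSystem hp.isCartan x} = ⊤ :=
    G1_eq_top hp coxeterD4.toCoxeterSystem
  have C := coords (K := K) hp coxeterD4.toCoxeterSystem 3
  have hxp : x ^ 3 = 1 := by rw [← hx, pow_orderOf_eq_one]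
  have hG := KFacts.RgdRigid.GG_eq_top (T := TT chevD4 K) hG1
  obtain ⟨g, hg⟩ := exists_fix_U R hG (k := 1) (x := x) (by rw [pow_one]; exact hxp)
  obtain ⟨u, hu, -, -, -, σ, D⟩ := exists_frame_pow R hG hg
  have hI : IntComm coxeterD4.toCoxeterSystem hp.isCartan (XX chevD4 4 K) :=
    intComm_restrict (KFacts.RgdFiltChev.intComm_GL hp _) (chevD4.group K) fun x _ => XV_le_group hp x
  have hset : (sD4 : Set (Fin 4 → ℤ)) = S3 coxeterD4.toCoxeterSystem hp.isCartan := by
    ext z
    exact mem_sD4 coxeterD4.toCoxeterSystem z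
  refine good_of_tw R hI ?_ (KFacts.RgdFiltChev.hasFilt_group hp K 3) hc
    (fun z hz => coord_comm (C.coord z hz.1)) (fun z hz => coord_exp (C.coord z hz.1)) hset ?_ ?_ hxp
    (cartan_sym σ (D.matrix R)) hu D
  · intro z hz
    obtain ⟨r, hr, rfl⟩ := (isRoot_iff hp _ z).1 hz
    exact hgt_le_D4 r hr
  · refine closed_of (c := ![-1, 3, -1, -1]) (c' := ![2, -3, 2, 2]) (c'' := ![1, 1, 1, 1]) fun z => ?_
    rw [Finset.mem_coe, mem_sD4 coxeterD4.toCoxeterSystem]
    refine and_congr_right fun hz => ?_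
    obtain ⟨r, hr, rfl⟩ := (isRoot_iff hp _ z).1 hz
    exact cone_D4 r hr
  · have h1 : ∏ x ∈ sD4, Nat.card ↥(XX chevD4 4 K x) = Nat.card K ^ 5 := by
      rw [Finset.prod_congr rfl fun z hz => coord_card (C.coord z ((mem_sD4 coxeterD4.toCoxeterSystem z).1 hz).1),
        Finset.prod_const, card_sD4]
    rw [h1]
    have h2 : 3 ≤ Nat.card K := by
      rw [Nat.card_eq_fintype_card]
      exact CpAut.RgdUntw.three_le 3 Nat.prime_three (by norm_num) K
    calc 3 ^ 3 < 3 ^ 5 := by norm_num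
      _ ≤ Nat.card K ^ 5 := Nat.pow_le_pow_left h2 5

end D4

/-! ### `³D₄` -/

section TwD4

open Cfsg.Agent.Nodes.RGDFold Cfsg.Agent.Nodes.RGDTwD4 Cfsg.Agent.KFacts.TwDFour.Out Cfsg.Agent.Nodes.RGDChev

theorem hgt_le_TwD4 : ∀ r < chevD4.nroots, hgt (V chevD4 J r) ≤ 5 := by decide +kernel

/-- the roots of height at least `3` -/
def sTw : Finset (Fin 2 → ℤ) := {![1, 2], ![1, 3], ![2, 3]}

theorem mem_iff_Tw : ∀ r < chevD4.nroots, V chevD4 J r ∈ sTw ↔ 3 ≤ hgt (V chevD4 J r) := by decide +kernel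

theorem root_Tw : ∀ z ∈ sTw, ∃ r < chevD4.nroots, V chevD4 J r = z := by decide +kernel

theorem cone_Tw : ∀ r < chevD4.nroots, V chevD4 J r ∈ sTw ↔
    (0 ≤ L ![3, -1] (V chevD4 J r) ∧ 0 ≤ L ![-3, 2] (V chevD4 J r) ∧
      0 < L ![1, 1] (V chevD4 J r)) := by decide +kernel

theorem isRoot_tw {W : Type*} [Group W] (cs : CoxeterSystem CoxeterMatrix.G₂ W) (z : Fin 2 → ℤ) :
    IsRoot cs isCartan z ↔ ∃ r < chevD4.nroots, V chevD4 J r = z := by
  have hwp : ∀ i : Fin 2, ∀ r < chevD4.nroots, wp chevD4 (J i) r < chevD4.nroots := by decide +kernel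
  exact foldData.isRoot_iff (cs := cs) (h := isCartan) hp.checked hwp z

theorem isRoot_of_mem {W : Type*} [Group W] (cs : CoxeterSystem CoxeterMatrix.G₂ W) {z : Fin 2 → ℤ} (hz : z ∈ sTw) :
    IsRoot cs isCartan z := (isRoot_tw cs z).2 (root_Tw z hz)

theorem refl_Tw : Nodes.RGDFold.refl A 1 (Nodes.RGDFold.refl A 0 (sr 1)) = ![1, 2] := by decide +kernel

/-- **`³D₄(q)`, `q` a power of `3`, all automorphisms of order `3`.** -/
theorem bpS_twistedD4_three {K : Type u} [Field K] [Fintype K] [CharP K 3] {q : ℕ} (hq : IsPrimePow q)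
    (hK : Fintype.card K = q ^ 3) : BpTab.BpS 3 ↥(twistedD4 K q) := by
  intro x hx
  obtain ⟨φ, hφ⟩ := D4Fixed.exists_frob hq hK
  obtain ⟨cs, hcs⟩ : ∃ cs : CoxeterSystem CoxeterMatrix.G₂ CoxeterMatrix.G₂.Group, cs = cs :=
    ⟨CoxeterMatrix.G₂.toCoxeterSystem, rfl⟩
  have hW : Finite CoxeterMatrix.G₂.Group := finiteW cs
  have R := Cfsg.Agent.Nodes.RGDTwD4.rgd cs hK hφ 3
  have hG1 : RGD.Sup (X φ q) {x | IsRoot cs isCartan x} = ⊤ := _root_.Cfsg.Agent.Nodes.RGDTwD4.G1_eq_top cs hK hφ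
  obtain ⟨hs, hna⟩ := Cfsg.Agent.S1071.result hq hK
  have hc : ∃ a b : ↥(twistedD4 K q), a * b ≠ b * a := by
    by_contra hcon
    push Not at hcon
    exact hna ⟨⟨hcon⟩⟩
  have hxp : x ^ 3 = 1 := by rw [← hx, pow_orderOf_eq_one]
  have hG := KFacts.RgdRigid.GG_eq_top (T := Nodes.RGDTwD4.T K q) hG1
  obtain ⟨g, hg⟩ := exists_fix_U R hG (k := 1) (x := x) (by rw [pow_one]; exact hxp)
  obtain ⟨u, hu, -, -, hpow, σ, D⟩ := exists_frame_pow R hG hg
  have hσ : σ = 1 := by
    have h1 : ∀ σ : Equiv.Perm (Fin 2), σ ^ 3 = 1 → σ = 1 := by decide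
    refine h1 σ (perm_pow_eq_one R D (hpow 3 ?_))
    have h2 := pow_conj_eq_one (δ := (MulAut.conj g)⁻¹) hxp
    rwa [inv_inv] at h2
  subst hσ
  have hI : IntComm cs isCartan (X φ q) :=
    intComm_restrict (KFacts.RgdFiltTwAll.intComm_fold cs isCartan foldData
      (foldGrp hφ (D4Fixed.twisted_le_fix hK hφ)) 3) (twistedD4 K q)
      fun z hz => R_le cs isCartan foldData (foldGrp hφ (D4Fixed.twisted_le_fix hK hφ)) 3 hz
  have hset : (sTw : Set (Fin 2 → ℤ)) = S3 cs isCartan := by
    ext z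
    rw [Finset.mem_coe]
    constructor
    · intro hz
      obtain ⟨r, hr, rfl⟩ := root_Tw z hz
      exact ⟨isRoot_of_mem cs hz, (mem_iff_Tw r hr).1 hz⟩
    · rintro ⟨hz, h3⟩
      obtain ⟨r, hr, rfl⟩ := (isRoot_tw cs z).1 hz
      exact (mem_iff_Tw r hr).2 h3
  -- the root groups
  have hX : ∀ z, IsRoot cs isCartan z → ∃ (i : Fin 2) (k : ↥(twistedD4 K q)), X φ q z = cj k (X φ q (sr i)) := by
    rintro _ ⟨w, i, rfl⟩
    obtain ⟨k, hk⟩ := exists_rp cs R.nsys w
    exact ⟨i, k, (R.conj_rp hk (isRoot_sr cs isCartan i)).symm⟩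
  have hCh : ∀ i, CharP (KD φ i) 3 := fun i => inferInstance
  have hcard : ∀ i, Nat.card ↥(X φ q (sr i)) = Nat.card ↥(KD φ i) := fun i => coord_card (coordD hφ hK i)
  have hge : ∀ z, IsRoot cs isCartan z → 3 ≤ Nat.card ↥(X φ q z) := by
    intro z hz
    obtain ⟨i, k, e⟩ := hX z hz
    rw [e, Nodes.CardSup.card_cj, hcard]
    have := Fintype.ofFinite ↥(KD φ i)
    rw [Nat.card_eq_fintype_card]
    exact CpAut.RgdUntw.three_le 3 Nat.prime_three (by norm_num) _
  have h12 : 27 ≤ Nat.card ↥(X φ q ![1, 2]) := by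
    have h1 : Nat.card ↥(X φ q ![1, 2]) = Nat.card ↥(X φ q (sr 1)) := by
      have h2 := Nodes.CardSup.card_X_rep R (cs.simple 1 * cs.simple 0) (isRoot_sr cs isCartan 1)
      rwa [rep_mul_apply, rep_refl, rep_refl, refl_Tw] at h2
    have h2 : Nat.card ↥(KD φ 1) = q ^ 3 := by
      rw [F3_eq_top hK hφ, ← hK, ← Nat.card_eq_fintype_card]
      exact Nat.card_congr (Subfield.topEquiv (K := K)).toEquiv
    rw [h1, hcard, h2]
    have h3 : 3 ≤ q := by
      by_contra hlt
      have h4 : q = 2 := by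
        have := hq.one_lt
        omega
      subst h4
      obtain ⟨n, -, hn⟩ := FiniteField.card K 3
      have h5 : 3 ∣ 2 ^ 3 := by
        rw [← hK, hn]
        exact dvd_pow_self 3 n.ne_zero
      norm_num at h5
    calc 27 = 3 ^ 3 := by norm_num
      _ ≤ q ^ 3 := Nat.pow_le_pow_left h3 3
  refine good_of_tw R hI ?_ (KFacts.RgdFiltTwAll.hasFilt_D4 hq hK 3) hc ?_ ?_ hset ?_ ?_ hxp
    (fun _ _ => rfl) hu D
  · intro z hz
    obtain ⟨r, hr, rfl⟩ := (isRoot_tw cs z).1 hz
    exact hgt_le_TwD4 r hr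
  · intro z hz a ha b hb
    obtain ⟨i, k, e⟩ := hX z hz.1
    rw [e] at ha hb
    obtain ⟨a', ha', rfl⟩ := ha
    obtain ⟨b', hb', rfl⟩ := hb
    rw [← map_mul, ← map_mul, coord_comm (coordD hφ hK i) a' ha' b' hb']
  · intro z hz a ha
    obtain ⟨i, k, e⟩ := hX z hz.1
    rw [e] at ha
    obtain ⟨a', ha', rfl⟩ := ha
    rw [← map_pow, coord_exp (coordD hφ hK i) a' ha', map_one]
  · refine closed_of (c := ![3, -1]) (c' := ![-3, 2]) (c'' := ![1, 1]) fun z => ?_
    rw [Finset.mem_coe]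
    constructor
    · intro hz
      obtain ⟨r, hr, rfl⟩ := root_Tw z hz
      exact ⟨isRoot_of_mem cs hz, (cone_Tw r hr).1 hz⟩
    · rintro ⟨hz, h3⟩
      obtain ⟨r, hr, rfl⟩ := (isRoot_tw cs z).1 hz
      exact (cone_Tw r hr).2 h3
  · have h1 : ∏ x ∈ sTw, Nat.card ↥(X φ q x) =
        Nat.card ↥(X φ q ![1, 2]) * (Nat.card ↥(X φ q ![1, 3]) * Nat.card ↥(X φ q ![2, 3])) := by
      rw [sTw, Finset.prod_insert (by decide), Finset.prod_insert (by decide), Finset.prod_singleton]
    rw [h1]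
    have h2 := hge ![1, 3] (isRoot_of_mem cs (by decide))
    have h3 := hge ![2, 3] (isRoot_of_mem cs (by decide))
    calc 3 ^ 3 < 27 * (3 * 3) := by norm_num
      _ ≤ _ := Nat.mul_le_mul h12 (Nat.mul_le_mul h2 h3)

end TwD4

end Cfsg.Agent.BpLieP.Tri

end

-- merged: Cfsg.Agent.BpLieP.Main
section

/-!
# S1332: the groups of Lie type in odd characteristic `p`, all automorphisms of order `p`

* `bpS_psu`;
* `bpS_of_lieFilt` : `BpS p X` for all simple groups `X` of Lie type of odd characteristic `p` except `²G₂(q)`.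
-/

set_option autoImplicit false
set_option linter.unusedSectionVars false

namespace Cfsg.Agent.BpLieP.Main

open Cfsg Cfsg.Lie Cfsg.Agent.CpAut Cfsg.Agent.BpTab Cfsg.Agent.BpLieP.Base

section Psu

open Cfsg.Agent.CpAut.Psl Cfsg.Agent.CpAut.Fix Cfsg.Agent.CpAutU.Fld
open Cfsg.Agent.CpAutU.Fixed Cfsg.Agent.CpAutU.Desc Cfsg.Agent.CpAutU.Row
open Cfsg.Agent.ClassicalGeometry.PSUAutCount (toAut)

/-- **`PSU_n(q)`** -/
theorem bpS_psu {F : Type} [Field F] [Fintype F] {p : ℕ} (hp : p.Prime) (hp2 : p ≠ 2) [CharP F p] {n q : ℕ}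
    (hF : Fintype.card F = q ^ 2) (hn : 3 ≤ n) : BpS p (PSU n F q) := by
  have : Fact p.Prime := ⟨hp⟩
  have h32 : ¬ (n = 3 ∧ q = 2) := fun h => ne_two hp hp2 hF h.2
  have hsimple := S0283.result hF n hn h32
  have hfilt : KFacts.RgdFilt.HasFilt p (PSU n F q) :=
    KFacts.RgdLieCharP.hasFilt_of_lie (Or.inr (Or.inr (Or.inl ⟨F, inferInstance, inferInstance, inferInstance, n, q, hF,
      hn, h32, ⟨MulEquiv.refl _⟩⟩)))
  refine bpS_of_filt hfilt not_comm_quot ?_
  intro x hx hno
  have hx' : x ^ p = 1 := by rw [← hx]; exact pow_orderOf_eq_one x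
  obtain ⟨A, ρ, rfl⟩ := ClassicalGeometry.PSUAutMain.exists_toAut hF hn h32 x
  have hρ : ρ ≠ 1 := by
    rintro rfl
    exact hno (_root_.Cfsg.Agent.CpAutU.Desc.inner_of_lin hF hn hx')
  obtain ⟨hord, -⟩ := _root_.Cfsg.Agent.CpAutU.Desc.exists_conj hF hn hp hp2 hx' hρ
  obtain ⟨s, -, hs, hq⟩ := exists_s' hF hord (hp.odd_of_ne_two hp2)
  have hchar : CharP ↥(fixf ρ) p := PslRow.charP_fixf ρ
  have hfin : Fintype ↥(fixf ρ) := Fintype.ofFinite _
  have hF₀ : Fintype.card ↥(fixf ρ) = s ^ 2 := by rw [← Nat.card_eq_fintype_card, hs]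
  have hpow : ∀ a ∈ fixf ρ, a ^ q = a ^ s := fun a ha => pow_q (hp.odd_of_ne_two hp2) hs hq ha
  obtain ⟨e⟩ := exists_equiv hF hn hp hp2 hx' hρ
  have hS := _root_.Cfsg.Agent.CpAutU.Fixed.sett (n := n) hF hn hF₀ hpow
  have h1 : Good p ↥(fixedSubgroup (toAut (1 : GU n F q) ρ)) :=
    good_sett_of_simple hS (S0283.result hF₀ n hn fun h => ne_two hp hp2 hF₀ h.2)
  exact h1.congr e.symm

end Psu

/-- **`PΩ₈⁺(q)`** -/
theorem bpS_plus_four {K : Type} [Field K] [Fintype K] {p : ℕ} (hp : p.Prime) (hp2 : p ≠ 2) [CharP K p] :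
    BpS p (POmega K (quadFormPlus 4 K)) := by
  have : Fact p.Prime := ⟨hp⟩
  obtain ⟨f⟩ := Cfsg.Agent.S1082.result (F := K)
  have hfin : Finite (POmega K (quadFormPlus 4 K)) := Finite.of_equiv _ f.toEquiv
  by_cases hp3 : p = 3
  · subst hp3
    exact bpS_congr f Tri.bpS_D4_three
  · exact bpS_congr f (Untw.bpS_D4 p hp2 fun h => absurd h hp3)

/-- **`²E₆(q)` and `³D₄(q)`** -/
theorem bpS_of_twisted {p : ℕ} (hp : p.Prime) (hp2 : p ≠ 2) {X : Type*} [Group X] [Finite X]
    (h : IsTwistedE6D4Char p X) : BpS p X := by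
  have : Fact p.Prime := ⟨hp⟩
  obtain ⟨K, _, _, _, q, hq, ⟨hK, ⟨e⟩⟩ | ⟨hK, ⟨e⟩⟩⟩ := h
  · exact bpS_congr e.symm (Tw.bpS_twistedE6 p hp2 hq hK)
  · by_cases hp3 : p = 3
    · subst hp3
      exact bpS_congr e.symm (Tri.bpS_twistedD4_three hq hK)
    · exact bpS_congr e.symm (TwD4.bpS_twistedD4 p hp3 hq hK)

/-- **The groups of Lie type in odd characteristic `p`**, except `²G₂(q)`. -/
theorem bpS_of_lieFilt {p : ℕ} (hp : p.Prime) (hp2 : p ≠ 2) {X : Type*} [Group X] [Finite X]
    (h : KFacts.RgdLieCharP.IsLieFilt p X) : BpS p X := by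
  have : Fact p.Prime := ⟨hp⟩
  rcases h with h | h | h | h | h | h | h | h
  · obtain ⟨F, _, _, _, n, hn, h4, ⟨e⟩⟩ := h
    exact bpS_congr e.symm (Psl.bpS_psl hp hp2 hn h4)
  · obtain ⟨F, _, _, _, m, hm, -, ⟨e⟩⟩ := h
    exact bpS_congr e.symm (Psl.bpS_psp hp hp2 hm)
  · obtain ⟨F, _, _, _, n, q, hF, hn, -, ⟨e⟩⟩ := h
    exact bpS_congr e.symm (bpS_psu hp hp2 hF hn)
  · obtain ⟨F, _, _, _, m, hm, -, ⟨e⟩⟩ := h
    exact bpS_congr e.symm (Orth.bpS_odd hp hp2 hm)
  · obtain ⟨F, _, _, _, m, hm, ⟨e⟩⟩ := h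
    rcases hm.eq_or_lt with h4 | h4
    · subst h4
      exact bpS_congr e.symm (bpS_plus_four hp hp2)
    · exact bpS_congr e.symm (Orth.bpS_plus hp hp2 h4)
  · obtain ⟨F, _, _, _, m, a, b, hm, hab, ⟨e⟩⟩ := h
    exact bpS_congr e.symm (Orth.bpS_minus hp hp2 hm a b hab)
  · exact Untw.bpS_of_exceptional p hp2 h
  · exact bpS_of_twisted hp hp2 h

end Cfsg.Agent.BpLieP.Main

end
end

-- part: BpCl/Rows
section
-- merged: Cfsg.Agent.BpCl.Base
section

/-!
# Isometries commuting with a semilinear map (S1332, classical groups; helper80)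

* `Iso f` : the linear automorphisms preserving `f : V → V → F` (a bilinear form, or `f u v = Q u`);
* `CL F g` : the linear automorphisms commuting with the permutation `g` of `V`;
* `Semi φ g`, `SemiIso f φ c g` : `g` is `φ`-semilinear (and multiplies `f` by `c`);
* `exists_normal` : if `g ^ p` is a scalar (`p` odd), then a multiple `g'` of `g` satisfies `g' ^ p = 1` and preserves
  (up to `φ`) a multiple of `f`.
-/

set_option autoImplicit false

namespace Cfsg.Agent.BpCl

open Subgroup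

section Defs

variable {F V : Type*} [Field F] [AddCommGroup V] [Module F V]

/-- The linear automorphisms preserving `f`. -/
def Iso (f : V → V → F) : Subgroup (V ≃ₗ[F] V) where
  carrier := {h | ∀ u v, f (h u) (h v) = f u v}
  mul_mem' {a b} ha hb := fun u v => (ha (b u) (b v)).trans (hb u v)
  one_mem' := fun _ _ => rfl
  inv_mem' {a} ha := fun u v => by
    have h1 := ha (a⁻¹ u) (a⁻¹ v)
    have e : ∀ w, a (a⁻¹ w) = w := fun w => a.apply_symm_apply w
    rw [e, e] at h1
    exact h1.symm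

theorem mem_Iso {f : V → V → F} {h : V ≃ₗ[F] V} : h ∈ Iso f ↔ ∀ u v, f (h u) (h v) = f u v := Iff.rfl

variable (F) in
/-- The linear automorphisms commuting with the permutation `g`. -/
def CL (g : Equiv.Perm V) : Subgroup (V ≃ₗ[F] V) where
  carrier := {h | ∀ v, h (g v) = g (h v)}
  mul_mem' {a b} ha hb := fun v => by
    change a (b (g v)) = g (a (b v))
    rw [hb, ha]
  one_mem' := fun _ => rfl
  inv_mem' {a} ha := fun v => by
    have e : ∀ w, a (a⁻¹ w) = w := fun w => a.apply_symm_apply w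
    apply a.injective
    rw [e, ha, e]

theorem mem_CL {g : Equiv.Perm V} {h : V ≃ₗ[F] V} : h ∈ CL F g ↔ ∀ v, h (g v) = g (h v) := Iff.rfl

/-- `g` is `φ`-semilinear. -/
structure Semi (φ : F ≃+* F) (g : Equiv.Perm V) : Prop where
  add : ∀ u v, g (u + v) = g u + g v
  smul : ∀ (a : F) v, g (a • v) = φ a • g v

/-- `g` is `φ`-semilinear and multiplies `f` by `c`, up to `φ`. -/
structure SemiIso (f : V → V → F) (φ : F ≃+* F) (c : F) (g : Equiv.Perm V) : Prop extends Semi φ g where
  form : ∀ u v, f (g u) (g v) = c * φ (f u v)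

end Defs

section Norm

variable {F V : Type*} [Field F] [AddCommGroup V] [Module F V]

/-- the norm `c φ(c) ⋯ φⁿ⁻¹(c)` -/
def nrm (φ : F ≃+* F) (c : F) (n : ℕ) : F := ∏ i ∈ Finset.range n, φ^[i] c

theorem nrm_zero (φ : F ≃+* F) (c : F) : nrm φ c 0 = 1 := Finset.prod_range_zero _

theorem nrm_succ (φ : F ≃+* F) (c : F) (n : ℕ) : nrm φ c (n + 1) = nrm φ c n * φ^[n] c :=
  Finset.prod_range_succ _ _

theorem nrm_succ' (φ : F ≃+* F) (c : F) (n : ℕ) : nrm φ c (n + 1) = c * φ (nrm φ c n) := by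
  unfold nrm
  rw [Finset.prod_range_succ', map_prod, mul_comm]
  congr 1
  refine Finset.prod_congr rfl fun i _ => ?_
  rw [Function.iterate_succ_apply']

theorem iter_map_mul (φ : F ≃+* F) (n : ℕ) (a b : F) : φ^[n] (a * b) = φ^[n] a * φ^[n] b := by
  induction n generalizing a b with
  | zero => rfl
  | succ n ih => rw [Function.iterate_succ_apply, Function.iterate_succ_apply, Function.iterate_succ_apply, map_mul, ih]

theorem iter_map_one (φ : F ≃+* F) (n : ℕ) : φ^[n] (1 : F) = 1 := by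
  induction n with
  | zero => rfl
  | succ n ih => rw [Function.iterate_succ_apply, map_one, ih]

theorem iter_ne_zero {φ : F ≃+* F} {c : F} (hc : c ≠ 0) (n : ℕ) : φ^[n] c ≠ 0 := by
  induction n with
  | zero => exact hc
  | succ n ih => rw [Function.iterate_succ_apply']; simpa using ih

theorem nrm_ne_zero {φ : F ≃+* F} {c : F} (hc : c ≠ 0) (n : ℕ) : nrm φ c n ≠ 0 :=
  Finset.prod_ne_zero_iff.mpr fun i _ => iter_ne_zero hc i

theorem nrm_mul (φ : F ≃+* F) (a b : F) (n : ℕ) : nrm φ (a * b) n = nrm φ a n * nrm φ b n := by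
  unfold nrm
  rw [← Finset.prod_mul_distrib]
  exact Finset.prod_congr rfl fun i _ => iter_map_mul φ i a b

theorem nrm_one (φ : F ≃+* F) (n : ℕ) : nrm φ (1 : F) n = 1 :=
  Finset.prod_eq_one fun i _ => iter_map_one φ i

theorem nrm_pow (φ : F ≃+* F) (a : F) (k n : ℕ) : nrm φ (a ^ k) n = nrm φ a n ^ k := by
  induction k with
  | zero => rw [pow_zero, pow_zero, nrm_one]
  | succ k ih => rw [pow_succ, pow_succ, nrm_mul, ih]

theorem iter_fix {φ : F ≃+* F} {a : F} (h : φ a = a) (n : ℕ) : φ^[n] a = a :=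
  Function.iterate_fixed h n

theorem nrm_fix {φ : F ≃+* F} {a : F} (h : φ a = a) (n : ℕ) : nrm φ a n = a ^ n := by
  unfold nrm
  rw [Finset.prod_congr rfl fun i _ => iter_fix h i, Finset.prod_const, Finset.card_range]

variable {f : V → V → F} {φ : F ≃+* F} {c : F} {g : Equiv.Perm V}

theorem Semi.pow_smul (hg : Semi φ g) (n : ℕ) (b : F) (v : V) : (g ^ n) (b • v) = φ^[n] b • (g ^ n) v := by
  induction n generalizing b v with
  | zero => rfl
  | succ n ih =>
    rw [pow_succ, Equiv.Perm.mul_apply, hg.smul, ih, Equiv.Perm.mul_apply, Function.iterate_succ_apply]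

theorem Semi.pow_add (hg : Semi φ g) (n : ℕ) (u v : V) : (g ^ n) (u + v) = (g ^ n) u + (g ^ n) v := by
  induction n generalizing u v with
  | zero => rfl
  | succ n ih =>
    rw [pow_succ, Equiv.Perm.mul_apply, hg.add, ih, Equiv.Perm.mul_apply, Equiv.Perm.mul_apply]

theorem Semi.zero (hg : Semi φ g) : g 0 = 0 := by
  have h := hg.add 0 0
  rw [add_zero] at h
  exact left_eq_add.mp h

theorem SemiIso.pow_form (hg : SemiIso f φ c g) (n : ℕ) (u v : V) :
    f ((g ^ n) u) ((g ^ n) v) = nrm φ c n * φ^[n] (f u v) := by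
  induction n with
  | zero => rw [nrm_zero, one_mul]; rfl
  | succ n ih =>
    rw [pow_succ', Equiv.Perm.mul_apply, Equiv.Perm.mul_apply, hg.form, ih, map_mul, nrm_succ', mul_assoc,
      Function.iterate_succ_apply']

/-- The multiple `t • g` of a permutation. -/
def smulPerm (t : F) (ht : t ≠ 0) (g : Equiv.Perm V) : Equiv.Perm V where
  toFun v := t • g v
  invFun v := g.symm (t⁻¹ • v)
  left_inv v := by
    change g.symm (t⁻¹ • t • g v) = v
    rw [inv_smul_smul₀ ht, Equiv.symm_apply_apply]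
  right_inv v := by
    change t • g (g.symm (t⁻¹ • v)) = v
    rw [Equiv.apply_symm_apply, smul_inv_smul₀ ht]

theorem smulPerm_apply {t : F} (ht : t ≠ 0) (v : V) : smulPerm t ht g v = t • g v := rfl

theorem Semi.smulPerm (hg : Semi φ g) {t : F} (ht : t ≠ 0) : Semi φ (smulPerm t ht g) where
  add u v := by rw [smulPerm_apply, smulPerm_apply, smulPerm_apply, hg.add, smul_add]
  smul b v := by rw [smulPerm_apply, smulPerm_apply, hg.smul, smul_comm]

theorem Semi.smulPerm_pow (hg : Semi φ g) {t : F} (ht : t ≠ 0) (n : ℕ) (v : V) :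
    (BpCl.smulPerm t ht g ^ n) v = nrm φ t n • (g ^ n) v := by
  induction n generalizing v with
  | zero => rw [nrm_zero, one_smul]; rfl
  | succ n ih =>
    rw [pow_succ', Equiv.Perm.mul_apply, ih, smulPerm_apply, hg.smul, smul_smul, nrm_succ', pow_succ',
      Equiv.Perm.mul_apply]

theorem CL_smulPerm {t : F} (ht : t ≠ 0) : CL F (smulPerm t ht g) = CL F g := by
  ext h
  rw [mem_CL, mem_CL]
  refine forall_congr' fun v => ?_
  rw [smulPerm_apply, smulPerm_apply, map_smul]
  exact smul_right_injective V ht |>.eq_iff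

theorem CL_eq_of_smul {g' : Equiv.Perm V} {t : F} (ht : t ≠ 0) (h : ∀ v, g' v = t • g v) : CL F g' = CL F g := by
  rw [← CL_smulPerm (g := g) ht]
  congr 1
  exact Equiv.ext h

theorem Iso_smul {μ : F} (hμ : μ ≠ 0) : Iso (fun u v => μ * f u v) = Iso f := by
  ext h
  rw [mem_Iso, mem_Iso]
  exact forall_congr' fun u => forall_congr' fun v => (mul_right_injective₀ hμ).eq_iff

/-- **Normalization.** -/
theorem exists_normal {p : ℕ} (hp : Odd p) {a : F} (ha : a ≠ 0) (hc : c ≠ 0) (hg : SemiIso f φ c g)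
    (hf : ∀ (t : F) u v, f (t • u) (t • v) = t ^ 2 * f u v) (hne : ∃ u v, f u v ≠ 0)
    (hga : ∀ v, (g ^ p) v = a • v) :
    ∃ (μ : F) (g' : Equiv.Perm V), μ ≠ 0 ∧ SemiIso (fun u v => μ * f u v) φ 1 g' ∧ g' ^ p = 1 ∧
      (∀ b, φ^[p] b = b) ∧ ∃ t : F, t ≠ 0 ∧ ∀ v, g' v = t • g v := by
  obtain ⟨u0, v0, h0⟩ := hne
  obtain ⟨w, hw⟩ : ∃ w : V, w ≠ 0 := by
    by_contra hcon
    push Not at hcon
    apply h0
    have h1 := hf 0 u0 v0
    rw [hcon (0 • u0), hcon (0 • v0)] at h1
    rw [hcon u0, hcon v0, h1]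
    ring
  have hφp : ∀ b, φ^[p] b = b := by
    intro b
    have h1 := hg.toSemi.pow_smul p b w
    rw [hga, hga, smul_smul, smul_smul] at h1
    have h2 := smul_left_injective F hw h1
    rw [mul_comm] at h2
    exact (mul_right_cancel₀ ha h2).symm
  have hφa : φ a = a := by
    have hgw : g w ≠ 0 := by
      intro h
      apply hw
      apply g.injective
      rw [h, hg.toSemi.zero]
    have h1 : g ((g ^ p) w) = (g ^ p) (g w) := by
      rw [← Equiv.Perm.mul_apply, ← Equiv.Perm.mul_apply, ← pow_succ', ← pow_succ]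
    rw [hga, hga, hg.smul] at h1
    exact smul_left_injective F hgw h1
  have hN : nrm φ c p = a ^ 2 := by
    have h1 := hg.pow_form p u0 v0
    rw [hga, hga, hf, hφp] at h1
    exact (mul_right_cancel₀ h0 h1).symm
  obtain ⟨k, hk⟩ := hp
  let t : F := c ^ k * a⁻¹
  have ht : t ≠ 0 := mul_ne_zero (pow_ne_zero _ hc) (inv_ne_zero ha)
  have htN : nrm φ t p * a = 1 := by
    have h1 : nrm φ (a⁻¹) p = (a⁻¹) ^ p := nrm_fix (by rw [map_inv₀, hφa]) p
    rw [nrm_mul, nrm_pow, hN, h1, hk]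
    rw [← pow_mul, inv_pow, pow_succ a (2 * k)]
    have := pow_ne_zero (2 * k) ha
    field_simp
  let W : F := ∏ i ∈ Finset.range p, nrm φ c i
  have hW : W ≠ 0 := Finset.prod_ne_zero_iff.mpr fun i _ => nrm_ne_zero hc i
  have hWφ : W * a ^ 2 = c ^ p * φ W := by
    have h1 : ∀ i, nrm φ c i * φ^[i] c = c * φ (nrm φ c i) := fun i => by rw [← nrm_succ, nrm_succ']
    have h2 : W * nrm φ c p = ∏ i ∈ Finset.range p, (nrm φ c i * φ^[i] c) := by
      rw [Finset.prod_mul_distrib]
      rfl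
    have h3 : c ^ p * φ W = ∏ i ∈ Finset.range p, (c * φ (nrm φ c i)) := by
      rw [Finset.prod_mul_distrib, Finset.prod_const, Finset.card_range, map_prod]
    rw [← hN, h2, h3]
    exact Finset.prod_congr rfl fun i _ => h1 i
  refine ⟨W⁻¹, smulPerm t ht g, inv_ne_zero hW, ⟨hg.toSemi.smulPerm ht, ?_⟩, ?_, hφp, t, ht, fun v => rfl⟩
  · intro u v
    change W⁻¹ * f (t • g u) (t • g v) = 1 * φ (W⁻¹ * f u v)
    rw [hf, hg.form, map_mul, map_inv₀, one_mul]
    have h1 : φ W ≠ 0 := by simpa using hW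
    have h2 : t ^ 2 * c * a ^ 2 = c ^ p := by
      rw [hk]
      change (c ^ k * a⁻¹) ^ 2 * c * a ^ 2 = c ^ (2 * k + 1)
      field_simp
      ring
    have h3 : W⁻¹ * (t ^ 2 * c) = (φ W)⁻¹ := by
      apply eq_inv_of_mul_eq_one_left
      have h4 : W⁻¹ * (t ^ 2 * c) * φ W * (a ^ 2 * W) = 1 * (a ^ 2 * W) := by
        have h5 : W⁻¹ * (t ^ 2 * c) * φ W * (a ^ 2 * W) = (t ^ 2 * c * a ^ 2) * φ W := by
          field_simp
        rw [h5, h2, ← hWφ]
        ring
      exact mul_right_cancel₀ (mul_ne_zero (pow_ne_zero 2 ha) hW) h4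
    linear_combination (φ (f u v)) * h3
  · ext v
    rw [hg.toSemi.smulPerm_pow ht, hga, smul_smul, htN, one_smul]
    rfl

end Norm

end Cfsg.Agent.BpCl

end

-- merged: Cfsg.Agent.BpCl.Fix
section

/-!
# Galois descent for semilinear maps of prime order (S1332, classical groups; helper80)

`g` semilinear for `φ ≠ 1`, `g ^ p = 1`, `p` prime: `U` = fixed vectors (a space over the fixed field `K0 φ`).
The linear maps commuting with `g` are the `K0 φ`-linear maps of `U` (`exists_ext`); `isoEquiv` for isometries;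
`quad0`, `bilin0` : the forms over the fixed field.
-/

set_option autoImplicit false

namespace Cfsg.Agent.BpCl

open Subgroup

universe u v

variable {F : Type u} {V : Type v} [Field F] [AddCommGroup V] [Module F V]

/-- the fixed field of `φ` -/
def K0 (φ : F ≃+* F) : Subfield F := (φ : F →+* F).eqLocusField (RingHom.id F)

theorem mem_K0 {φ : F ≃+* F} {a : F} : a ∈ K0 φ ↔ φ a = a := Iff.rfl

instance finite_K0 [Finite F] (φ : F ≃+* F) : Finite (K0 φ) := inferInstance

theorem iterate_eq_pow (φ : F ≃+* F) (n : ℕ) (a : F) : ((φ : RingAut F) ^ n : RingAut F) a = φ^[n] a := by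
  induction n generalizing a with
  | zero => rfl
  | succ n ih =>
    rw [pow_succ, RingAut.mul_apply, ih]
    rfl

/-- Dedekind for the powers of `φ` -/
theorem dedekind {p : ℕ} (hp : p.Prime) {φ : F ≃+* F} (hφ : ∀ a, φ^[p] a = a) (hφ1 : φ ≠ RingEquiv.refl F)
    {x : ℕ → F} (h : ∀ a, ∑ i ∈ Finset.range p, φ^[i] a * x i = 0) : x 0 = 0 := by
  have := Fact.mk hp
  have ho : orderOf (φ : RingAut F) = p := by
    apply orderOf_eq_prime
    · ext a
      rw [iterate_eq_pow, hφ]
      rfl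
    · exact hφ1
  let f : Fin p → (F →* F) := fun i => (((φ : RingAut F) ^ (i : ℕ) : RingAut F) : F ≃+* F)
  have hinj : Function.Injective f := by
    intro i j hij
    have h1 : ((φ : RingAut F) ^ (i : ℕ) : RingAut F) = (φ : RingAut F) ^ (j : ℕ) := by
      ext a
      exact DFunLike.congr_fun hij a
    apply Fin.ext
    apply pow_injOn_Iio_orderOf _ _ h1
    · rw [ho]; exact i.2
    · rw [ho]; exact j.2
  have hli := (linearIndependent_monoidHom F F).comp f hinj
  rw [Fintype.linearIndependent_iff] at hli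
  have h1 := hli (fun i => x i) ?_ ⟨0, hp.pos⟩
  · exact h1
  · funext a
    have h2 := h a
    rw [Finset.sum_range] at h2
    rw [Finset.sum_apply]
    change ∑ i : Fin p, (x i • (f i : F → F)) a = 0
    rw [← h2]
    refine Finset.sum_congr rfl fun i _ => ?_
    change x i * ((φ : RingAut F) ^ (i : ℕ) : RingAut F) a = _
    rw [iterate_eq_pow, mul_comm]

section semi

variable {g : Equiv.Perm V} {φ : F ≃+* F} (hg : Semi φ g) {p : ℕ}

/-- the fixed vectors -/
def U (hg : Semi φ g) : Submodule (K0 φ) V where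
  carrier := {v | g v = v}
  add_mem' {u v} (hu : g u = u) (hv : g v = v) := show g (u + v) = u + v by rw [hg.add, hu, hv]
  zero_mem' := hg.zero
  smul_mem' a {v} (hv : g v = v) := show g ((a : F) • v) = (a : F) • v by
    rw [hg.smul, hv, mem_K0.1 a.2]

theorem mem_U {v : V} : v ∈ U hg ↔ g v = v := Iff.rfl

theorem span_U (hp : p.Prime) (hgp : g ^ p = 1) (hφ : ∀ a, φ^[p] a = a) (hφ1 : φ ≠ RingEquiv.refl F) :
    Submodule.span F (U hg : Set V) = ⊤ := by
  by_contra hne
  obtain ⟨f, hf0, hf⟩ := Submodule.exists_le_ker_of_lt_top _ (lt_top_iff_ne_top.2 hne)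
  apply hf0
  apply LinearMap.ext
  intro v
  rw [LinearMap.zero_apply]
  have key := dedekind hp hφ hφ1 (x := fun i => f ((g ^ i) v)) ?_
  · exact key
  intro a
  have h1 : ∑ i ∈ Finset.range p, φ^[i] a • (g ^ i) v ∈ U hg := by
    rw [mem_U]
    have hsum : ∀ n, g (∑ i ∈ Finset.range n, φ^[i] a • (g ^ i) v) =
        ∑ i ∈ Finset.range n, φ^[i + 1] a • (g ^ (i + 1)) v := by
      intro n
      induction n with
      | zero => exact hg.zero
      | succ n ih =>
        rw [Finset.sum_range_succ, Finset.sum_range_succ, hg.add, ih, hg.smul, Function.iterate_succ_apply',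
          pow_succ' g n, Equiv.Perm.mul_apply]
    rw [hsum]
    have h2 := Finset.sum_range_succ (fun i => φ^[i] a • (g ^ i) v) p
    have h3 := Finset.sum_range_succ' (fun i => φ^[i] a • (g ^ i) v) p
    rw [h2, hφ, hgp] at h3
    have h4 : φ^[0] a • (g ^ 0) v = a • (1 : Equiv.Perm V) v := rfl
    rw [h4] at h3
    exact (add_right_cancel h3).symm
  have h2 := hf (Submodule.subset_span h1)
  rw [LinearMap.mem_ker, map_sum] at h2
  rw [← h2]
  refine Finset.sum_congr rfl fun i _ => ?_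
  rw [map_smul, smul_eq_mul]

/-- induction on the span of the fixed vectors -/
theorem induction_U (hspan : Submodule.span F (U hg : Set V) = ⊤) {P : V → Prop} (h1 : ∀ v ∈ U hg, P v)
    (h2 : ∀ u v, P u → P v → P (u + v)) (h3 : ∀ (a : F) v, P v → P (a • v)) (v : V) : P v := by
  have hv : v ∈ Submodule.span F (U hg : Set V) := by rw [hspan]; exact Submodule.mem_top
  induction hv using Submodule.span_induction with
  | mem v hv => exact h1 v hv
  | zero => rw [← zero_smul F (0 : V)]; exact h3 0 0 (h1 0 (U hg).zero_mem)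
  | add u v _ _ hu hv => exact h2 u v hu hv
  | smul c v _ h => exact h3 c v h

/-- A basis consisting of fixed vectors. -/
theorem exists_basis [Module.Finite F V] (hspan : Submodule.span F (U hg : Set V) = ⊤) :
    ∃ (ι : Type v) (_ : Fintype ι) (b : Module.Basis ι F V) (b0 : Module.Basis ι (K0 φ) (U hg)),
      ∀ i, (b0 i : V) = b i := by
  let b := Module.Basis.ofSpan (K := F) (s := (U hg : Set V)) hspan.ge
  have hbU : ∀ i, b i ∈ U hg := fun i => Module.Basis.ofSpan_subset hspan.ge ⟨i, rfl⟩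
  have hfi : Fintype _ := FiniteDimensional.fintypeBasisIndex b
  have hli : LinearIndependent (K0 φ) (fun i => (⟨b i, hbU i⟩ : U hg)) := by
    apply LinearIndependent.of_comp (U hg).subtype
    have h1 : LinearIndependent F b := b.linearIndependent
    have h2 : LinearIndependent (K0 φ) b := h1.restrict_scalars' (K0 φ)
    exact h2
  have g_sum : ∀ (s : Finset _) (c : _ → F), g (∑ i ∈ s, c i • b i) = ∑ i ∈ s, φ (c i) • b i := by
    classical
    intro s c
    induction s using Finset.induction_on with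
    | empty => rw [Finset.sum_empty, Finset.sum_empty]; exact hg.zero
    | insert a s ha ih => rw [Finset.sum_insert ha, Finset.sum_insert ha, hg.add, ih, hg.smul, hbU a]
  have hsp : ⊤ ≤ Submodule.span (K0 φ) (Set.range fun i => (⟨b i, hbU i⟩ : U hg)) := by
    rintro ⟨u, hu⟩ -
    have h1 : ∑ i, b.repr u i • b i = u := b.sum_repr u
    have h2 : ∀ i, φ (b.repr u i) = b.repr u i := by
      intro i
      have h3 : ∑ i, φ (b.repr u i) • b i = u := by
        rw [← g_sum, h1]
        exact hu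
      have h4 := b.repr_sum_self fun i => φ (b.repr u i)
      rw [h3] at h4
      exact (congrFun h4 i).symm
    have h3 : (⟨u, hu⟩ : U hg) = ∑ i, (⟨b.repr u i, h2 i⟩ : K0 φ) • (⟨b i, hbU i⟩ : U hg) := by
      apply Subtype.ext
      rw [AddSubmonoidClass.coe_finsetSum]
      exact h1.symm
    rw [h3]
    exact Submodule.sum_mem _ fun i _ => Submodule.smul_mem _ _ (Submodule.subset_span ⟨i, rfl⟩)
  exact ⟨_, hfi, b, Module.Basis.mk hli hsp, fun i => by rw [Module.Basis.mk_apply]⟩

/-- Restriction to the fixed vectors. -/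
def res : ↥(CL F g) →* (U hg ≃ₗ[K0 φ] U hg) where
  toFun h :=
    { toFun := fun u => ⟨h.1 u, by
        have h1 := h.2 u
        rw [(mem_U hg).1 u.2] at h1
        exact h1.symm⟩
      invFun := fun u => ⟨(h⁻¹).1 u, by
        have h1 := (h⁻¹).2 u
        rw [(mem_U hg).1 u.2] at h1
        exact h1.symm⟩
      map_add' := fun u v => Subtype.ext (map_add h.1 (u : V) v)
      map_smul' := fun a u => Subtype.ext (map_smul h.1 (a : F) (u : V))
      left_inv := fun u => Subtype.ext (h.1.symm_apply_apply _)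
      right_inv := fun u => Subtype.ext (h.1.apply_symm_apply _) }
  map_one' := rfl
  map_mul' _ _ := rfl

theorem res_injective (hspan : Submodule.span F (U hg : Set V) = ⊤) : Function.Injective (res hg) := by
  rw [injective_iff_map_eq_one]
  intro h hh
  apply Subtype.ext
  apply LinearEquiv.ext
  intro v
  change h.1 v = v
  refine induction_U hg hspan (P := fun v => h.1 v = v) (fun u hu => ?_) (fun u v hu hv => ?_) (fun a v hv => ?_) v
  · exact congrArg Subtype.val (DFunLike.congr_fun hh ⟨u, hu⟩)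
  · rw [map_add, hu, hv]
  · rw [map_smul, hv]

theorem exists_lin [Module.Finite F V] (hspan : Submodule.span F (U hg : Set V) = ⊤) (T : U hg →ₗ[K0 φ] U hg) :
    ∃ L : V →ₗ[F] V, ∀ u : U hg, L u = T u := by
  obtain ⟨ι, hι, b, b0, hb⟩ := exists_basis hg hspan
  refine ⟨b.constr F fun i => (T (b0 i) : V), fun u => ?_⟩
  have h1 : (u : V) = ∑ i, (b0.repr u i : F) • b i := by
    conv_lhs => rw [← b0.sum_repr u]
    rw [AddSubmonoidClass.coe_finsetSum]
    exact Finset.sum_congr rfl fun i _ => by rw [← hb]; rfl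
  have h2 : (T u : V) = ∑ i, (b0.repr u i : F) • (T (b0 i) : V) := by
    conv_lhs => rw [← b0.sum_repr u, map_sum]
    rw [AddSubmonoidClass.coe_finsetSum]
    exact Finset.sum_congr rfl fun i _ => by rw [map_smul]; rfl
  rw [h1, map_sum, h2]
  exact Finset.sum_congr rfl fun i _ => by rw [map_smul, b.constr_basis]

theorem res_surjective [Module.Finite F V] (hspan : Submodule.span F (U hg : Set V) = ⊤) :
    Function.Surjective (res hg) := by
  intro T
  obtain ⟨L, hL⟩ := exists_lin hg hspan T.toLinearMap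
  obtain ⟨M, hM⟩ := exists_lin hg hspan T.symm.toLinearMap
  have h1 : L ∘ₗ M = LinearMap.id := by
    ext v
    change L (M v) = v
    refine induction_U hg hspan (P := fun v => L (M v) = v) (fun u hu => ?_) (fun u v hu hv => ?_) (fun a v hv => ?_) v
    · rw [hM ⟨u, hu⟩, hL]
      exact congrArg Subtype.val (T.apply_symm_apply ⟨u, hu⟩)
    · rw [map_add, map_add, hu, hv]
    · rw [map_smul, map_smul, hv]
  have h2 : M ∘ₗ L = LinearMap.id := by
    ext v
    change M (L v) = v
    refine induction_U hg hspan (P := fun v => M (L v) = v) (fun u hu => ?_) (fun u v hu hv => ?_) (fun a v hv => ?_) v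
    · rw [hL ⟨u, hu⟩, hM]
      exact congrArg Subtype.val (T.symm_apply_apply ⟨u, hu⟩)
    · rw [map_add, map_add, hu, hv]
    · rw [map_smul, map_smul, hv]
  let h : V ≃ₗ[F] V := LinearEquiv.ofLinearMap L M h1 h2
  have hh : h ∈ CL F g := by
    rw [mem_CL]
    intro v
    change L (g v) = g (L v)
    refine induction_U hg hspan (P := fun v => L (g v) = g (L v)) (fun u hu => ?_) (fun u v hu hv => ?_) (fun a v hv => ?_) v
    · rw [(mem_U hg).1 hu, hL ⟨u, hu⟩]
      exact ((mem_U hg).1 (T ⟨u, hu⟩).2).symm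
    · rw [hg.add, map_add, hu, hv, map_add, hg.add]
    · rw [hg.smul, map_smul, hv, map_smul, hg.smul]
  refine ⟨⟨h, hh⟩, ?_⟩
  apply LinearEquiv.ext
  intro u
  exact Subtype.ext (hL u)

/-- Isometries commuting with `g` are the isometries of the fixed vectors. -/
theorem nonempty_iso [Module.Finite F V] (hspan : Submodule.span F (U hg : Set V) = ⊤) {f : V → V → F}
    {f0 : U hg → U hg → K0 φ} (hf : ∀ u v, (f0 u v : F) = f u v)
    (hext : ∀ h ∈ CL F g, (∀ u v, u ∈ U hg → v ∈ U hg → f (h u) (h v) = f u v) → h ∈ Iso f) :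
    Nonempty (↥(Iso f ⊓ CL F g) ≃* ↥(Iso f0)) := by
  let j : ↥(Iso f ⊓ CL F g) →* ↥(CL F g) := Subgroup.inclusion inf_le_right
  have hmem : ∀ h : ↥(Iso f ⊓ CL F g), res hg (j h) ∈ Iso f0 := by
    intro h u v
    apply Subtype.ext
    rw [hf, hf]
    exact h.2.1 u v
  let r : ↥(Iso f ⊓ CL F g) →* ↥(Iso f0) := ((res hg).comp j).codRestrict _ hmem
  refine ⟨MulEquiv.ofBijective r ⟨?_, ?_⟩⟩
  · intro h h' hh
    have h1 : res hg (j h) = res hg (j h') := congrArg Subtype.val hh
    exact Subgroup.inclusion_injective _ (res_injective hg hspan h1)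
  · intro T
    obtain ⟨h, hh⟩ := res_surjective hg hspan T.1
    have h1 : h.1 ∈ Iso f := by
      refine hext h.1 h.2 fun u v hu hv => ?_
      have h2 := T.2 ⟨u, hu⟩ ⟨v, hv⟩
      rw [← hh] at h2
      have h3 := congrArg (fun a : K0 φ => (a : F)) h2
      rw [hf, hf] at h3
      exact h3
    refine ⟨⟨h.1, h1, h.2⟩, ?_⟩
    apply Subtype.ext
    exact hh

end semi

/-! ### bilinear forms -/

section bilin

variable {g : Equiv.Perm V} {φ : F ≃+* F} {B : LinearMap.BilinForm F V}

theorem form_mem {f : V → V → F} (hg : SemiIso f φ 1 g) {u v : V} (hu : u ∈ U hg.toSemi) (hv : v ∈ U hg.toSemi) :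
    f u v ∈ K0 φ := by
  rw [mem_K0]
  have h1 := hg.form u v
  rw [(mem_U _).1 hu, (mem_U _).1 hv, one_mul] at h1
  exact h1.symm

/-- the form over the fixed field -/
def bilin0 (hg : SemiIso (fun u v => B u v) φ 1 g) : LinearMap.BilinForm (K0 φ) (U hg.toSemi) :=
  LinearMap.mk₂ (K0 φ) (fun u v => (⟨B u v, form_mem hg u.2 v.2⟩ : K0 φ))
    (fun u u' v => Subtype.ext (LinearMap.map_add₂ B (u : V) u' v))
    (fun c u v => Subtype.ext (LinearMap.map_smul₂ B (c : F) (u : V) v))
    (fun u v v' => Subtype.ext (map_add (B u) (v : V) v'))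
    (fun c u v => Subtype.ext (map_smul (B u) (c : F) (v : V)))

theorem bilin_ext (hg : Semi φ g) (hspan : Submodule.span F (U hg : Set V) = ⊤) {B' : LinearMap.BilinForm F V}
    (h : ∀ u v, u ∈ U hg → v ∈ U hg → B' u v = B u v) (u v : V) : B' u v = B u v := by
  refine induction_U hg hspan (P := fun u => B' u v = B u v) (fun u hu => ?_) (fun u u' hu hu' => ?_)
    (fun a u hu => ?_) u
  · refine induction_U hg hspan (P := fun v => B' u v = B u v) (fun v hv => ?_) (fun v v' hv hv' => ?_)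
      (fun a v hv => ?_) v
    · exact h u v hu hv
    · rw [map_add, map_add, hv, hv']
    · rw [map_smul, map_smul, hv]
  · rw [LinearMap.map_add₂, LinearMap.map_add₂, hu, hu']
  · rw [LinearMap.map_smul₂, LinearMap.map_smul₂, hu]

theorem bilin0_nondeg (hg : SemiIso (fun u v => B u v) φ 1 g)
    (hspan : Submodule.span F (U hg.toSemi : Set V) = ⊤) (hB : ∀ u, (∀ v, B u v = 0) → u = 0)
    (u : U hg.toSemi) (hu : ∀ v, bilin0 hg u v = 0) : u = 0 := by
  apply Subtype.ext
  apply hB
  intro v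
  refine induction_U hg.toSemi hspan (P := fun v => B u v = 0) (fun v hv => ?_) (fun v v' hv hv' => ?_)
      (fun a v hv => ?_) v
  · exact congrArg Subtype.val (hu ⟨v, hv⟩)
  · rw [map_add, hv, hv', add_zero]
  · rw [map_smul, hv, smul_zero]

theorem nonempty_bilin [Module.Finite F V] (hg : SemiIso (fun u v => B u v) φ 1 g)
    (hspan : Submodule.span F (U hg.toSemi : Set V) = ⊤) :
    Nonempty (↥(Iso (fun u v => B u v) ⊓ CL F g) ≃* ↥(Iso (fun u v => bilin0 hg u v))) := by
  refine nonempty_iso hg.toSemi hspan (fun u v => rfl) ?_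
  intro h _ hh u v
  exact bilin_ext (B' := B.compl₁₂ h.toLinearMap h.toLinearMap) hg.toSemi hspan (fun u v hu hv => hh u v hu hv) u v

end bilin

/-! ### quadratic forms -/

section quad

open QuadraticMap

variable {g : Equiv.Perm V} {φ : F ≃+* F} {Q : QuadraticForm F V}

theorem semiIso_polar (hg : SemiIso (fun u _ => Q u) φ 1 g) : SemiIso (fun u v => polarBilin Q u v) φ 1 g where
  toSemi := hg.toSemi
  form u v := by
    have h : ∀ w, Q (g w) = φ (Q w) := fun w => by
      have := hg.form w w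
      rwa [one_mul] at this
    change polar Q (g u) (g v) = 1 * φ (polar Q u v)
    unfold polar
    rw [← hg.add, h, h, h, map_sub, map_sub, one_mul]

/-- the quadratic form over the fixed field -/
def quad0 (hg : SemiIso (fun u _ => Q u) φ 1 g) : QuadraticForm (K0 φ) (U hg.toSemi) where
  toFun u := ⟨Q u, form_mem hg u.2 u.2⟩
  toFun_smul a u := Subtype.ext (by
    change Q ((a : F) • (u : V)) = (a : F) * a * Q u
    rw [QuadraticMap.map_smul, smul_eq_mul])
  exists_companion' := ⟨bilin0 (semiIso_polar hg), fun u v => Subtype.ext (by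
    change Q ((u : V) + v) = Q u + Q v + polar Q u v
    exact QuadraticMap.map_add Q u v)⟩

theorem quad0_coe (hg : SemiIso (fun u _ => Q u) φ 1 g) (u : U hg.toSemi) : ((quad0 hg u : K0 φ) : F) = Q u := rfl

theorem polar_quad0 (hg : SemiIso (fun u _ => Q u) φ 1 g) (u v : U hg.toSemi) :
    ((polar (quad0 hg) u v : K0 φ) : F) = polar Q u v := rfl

theorem nonempty_quad [Module.Finite F V] (hg : SemiIso (fun u _ => Q u) φ 1 g)
    (hspan : Submodule.span F (U hg.toSemi : Set V) = ⊤) :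
    Nonempty (↥(Iso (fun u _ => Q u) ⊓ CL F g) ≃* ↥(Iso (fun u _ => quad0 hg u))) := by
  refine nonempty_iso hg.toSemi hspan (fun u v => rfl) ?_
  intro h _ hh u _
  have h1 : ∀ u ∈ U hg.toSemi, Q (h u) = Q u := fun u hu => hh u u hu hu
  have h2 : ∀ u v, polar Q (h u) (h v) = polar Q u v := by
    intro u v
    refine bilin_ext (B := polarBilin Q) (B' := (polarBilin Q).compl₁₂ h.toLinearMap h.toLinearMap) hg.toSemi hspan
      (fun u v hu hv => ?_) u v
    change polar Q (h u) (h v) = polar Q u v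
    unfold polar
    rw [← map_add, h1 u hu, h1 v hv, h1 (u + v) ((U hg.toSemi).add_mem hu hv)]
  change Q (h u) = Q u
  refine induction_U hg.toSemi hspan (P := fun u => Q (h u) = Q u) h1 (fun u v hu hv => ?_) (fun a v hv => ?_) u
  · rw [map_add, QuadraticMap.map_add Q, QuadraticMap.map_add Q, h2, hu, hv]
  · rw [map_smul, QuadraticMap.map_smul, QuadraticMap.map_smul, hv]

end quad

end Cfsg.Agent.BpCl

end

-- merged: Cfsg.Agent.BpCl.Sp
section

/-!
# The symplectic groups are good (S1332, classical groups; helper80)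

`good_bilin` : `Good p (Iso B)` for every nondegenerate alternating form over a finite field.
-/

set_option autoImplicit false

namespace Cfsg.Agent.BpCl

open Subgroup Cfsg Cfsg.Agent.BpTab
open Cfsg.Agent.ClassicalGeometry.SympBasic Cfsg.Agent.ClassicalGeometry.SympAutSemi
  Cfsg.Agent.ClassicalGeometry.SympIso

section General

variable {H : Type*} [Group H] [Finite H] {p : ℕ}

/-- Every normal subgroup is central or everything. -/
theorem good_of_dichotomy (hp : p.Prime) (h : ∀ N : Subgroup H, N.Normal → N ≤ center H ∨ N = ⊤) : Good p H := by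
  rcases h _ (Lib.Cores.pPrimeCore_normal p) with h1 | h1
  · unfold Good
    rw [commutator_eq_bot_iff_le_centralizer, ← le_centralizer_iff]
    exact h1.trans (center_le_centralizer _)
  · refine good_of_not_dvd (fun hd => ?_) hp
    have h2 := Lib.Cores.pPrimeCore_coprime (G := H) p
    rw [h1, Nat.card_congr (Subgroup.topEquiv (G := H)).toEquiv] at h2
    exact (Nat.Prime.coprime_iff_not_dvd hp).mp h2.symm hd

end General

section Symp

variable {F : Type*} [Field F] [Finite F] {p : ℕ}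

theorem good_symplectic (hp : p.Prime) (m : ℕ) : Good p ↥(Matrix.symplecticGroup (Fin m) F) := by
  have := Fintype.ofFinite F
  have := Fact.mk hp
  by_cases h : 3 ≤ m ∨ (m = 2 ∧ 3 ≤ Fintype.card F) ∨ 4 ≤ Fintype.card F
  · have hperf := LieClassical.SympPerfect.commutator_eq_top h
    have hgen : transvGroup m F = ⊤ := Cfsg.Agent.S0765.result m
    refine good_of_dichotomy hp fun N hN => ?_
    by_cases hle : N ≤ center _
    · exact Or.inl hle
    · right
      rw [eq_top_iff, ← hperf]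
      exact LieClassical.SympSimple.commutator_le_of_not_le_center hgen N hle
  push Not at h
  obtain ⟨h1, h2, h3⟩ := h
  have hq : 2 ≤ Fintype.card F := Fintype.one_lt_card
  have hcard := LieClassical.SympCount.card_symplecticGroup (F := F) m
  rcases Nat.lt_or_ge m 2 with hm | hm
  · apply good_of_solvable
    interval_cases m
    · refine Cfsg.Agent.S0144.result 2 3 0 0 Nat.prime_two Nat.prime_three ?_
      rw [hcard]; simp only [_root_.ne_eq, _root_.OfNat.ofNat_ne_zero, _root_.not_false_eq_true, _root_.zero_pow, _root_.pow_zero, _root_.Finset.range_zero, _root_.Finset.prod_empty, _root_.mul_one]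
    · generalize Fintype.card F = q at *
      interval_cases q
      · refine Cfsg.Agent.S0144.result 2 3 1 1 Nat.prime_two Nat.prime_three ?_
        rw [hcard]; simp only [_root_.one_pow, _root_.pow_one, _root_.Finset.range_one, _root_.Finset.prod_singleton, _root_.zero_add, _root_.mul_one, _root_.Nat.reducePow, _root_.Nat.add_one_sub_one, _root_.Nat.reduceMul]
      · refine Cfsg.Agent.S0144.result 2 3 3 1 Nat.prime_two Nat.prime_three ?_
        rw [hcard]; simp only [_root_.one_pow, _root_.pow_one, _root_.Finset.range_one, _root_.Finset.prod_singleton, _root_.zero_add, _root_.mul_one, _root_.Nat.reducePow, _root_.Nat.add_one_sub_one, _root_.Nat.reduceMul]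
  · have hm2 : m = 2 := by omega
    subst hm2
    have hq2 : Fintype.card F = 2 := by have := h2 rfl; omega
    obtain ⟨e⟩ := LieClassical.SpFourTwo.nonempty_equiv_perm hq2
    refine Good.congr ?_ e.symm
    have hs : IsSimpleGroup (alternatingGroup (Fin 6)) := alternatingGroup.isSimpleGroup (by simp)
    refine Good.of_solvable_quotient (N := alternatingGroup (Fin 6)) (good_of_simple hs) ?_
    have hc : (alternatingGroup (Fin 6)).index = 2 := alternatingGroup.index_eq_two
    have : IsCyclic (Equiv.Perm (Fin 6) ⧸ alternatingGroup (Fin 6)) := by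
      have : Fact (Nat.Prime 2) := ⟨Nat.prime_two⟩
      exact isCyclic_of_prime_card (p := 2) hc
    infer_instance

end Symp

section Bilin

variable {F V : Type*} [Field F] [AddCommGroup V] [Module F V] {B : LinearMap.BilinForm F V}

/-- The symplectic group of a form, in coordinates. -/
theorem nonempty_symp {k : ℕ} (e : (Fin k ⊕ Fin k → F) ≃ₗ[F] V)
    (he : ∀ x y, B (e x) (e y) = sympForm k F x y) :
    Nonempty (↥(Matrix.symplecticGroup (Fin k) F) ≃* ↥(Iso (fun u v => B u v))) := by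
  let Φ : ↥(Matrix.symplecticGroup (Fin k) F) →* (V ≃ₗ[F] V) :=
    { toFun := fun A =>
        { toFun := fun v => e (rho k F A (e.symm v))
          invFun := fun v => e (rho k F A⁻¹ (e.symm v))
          map_add' := fun u v => by
            rw [map_add, (isSemi_rho A).1, map_add]
          map_smul' := fun c v => by
            rw [map_smul, (isSemi_rho A).2.1, map_smul]
            rfl
          left_inv := fun v => by
            change e (rho k F A⁻¹ (e.symm (e (rho k F A (e.symm v))))) = v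
            rw [e.symm_apply_apply, map_inv, perm_inv_apply_self, e.apply_symm_apply]
          right_inv := fun v => by
            change e (rho k F A (e.symm (e (rho k F A⁻¹ (e.symm v))))) = v
            rw [e.symm_apply_apply, map_inv, perm_apply_inv_self, e.apply_symm_apply] }
      map_one' := by
        apply LinearEquiv.ext
        intro v
        change e (rho k F 1 (e.symm v)) = v
        rw [map_one, Equiv.Perm.one_apply, e.apply_symm_apply]
      map_mul' := fun A C => by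
        apply LinearEquiv.ext
        intro v
        change e (rho k F (A * C) (e.symm v)) = e (rho k F A (e.symm (e (rho k F C (e.symm v)))))
        rw [map_mul, e.symm_apply_apply, Equiv.Perm.mul_apply] }
  have hΦ : ∀ A v, Φ A v = e (rho k F A (e.symm v)) := fun _ _ => rfl
  have hmem : ∀ A, Φ A ∈ Iso (fun u v => B u v) := by
    intro A u v
    change B (Φ A u) (Φ A v) = B u v
    rw [hΦ, hΦ, he, sympForm_rho, ← he, e.apply_symm_apply, e.apply_symm_apply]
  refine ⟨MulEquiv.ofBijective (Φ.codRestrict _ hmem) ⟨?_, ?_⟩⟩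
  · intro A C h
    have h1 : Φ A = Φ C := congrArg Subtype.val h
    apply rho_injective
    ext1 v
    have h2 := LinearEquiv.congr_fun h1 (e v)
    rw [hΦ, hΦ, e.symm_apply_apply] at h2
    exact e.injective h2
  · rintro ⟨h, hh⟩
    let h' : Equiv.Perm (Fin k ⊕ Fin k → F) := (e.toEquiv.trans h.toEquiv).trans e.symm.toEquiv
    have h'e : ∀ v, h' v = e.symm (h (e v)) := fun _ => rfl
    obtain ⟨A, hA⟩ := exists_rho_eq h' (fun u v => by rw [h'e, h'e, h'e, map_add, map_add, map_add])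
      (fun a v => by rw [h'e, h'e, map_smul, map_smul, map_smul])
      (fun u v => by
        rw [h'e, h'e, ← he, e.apply_symm_apply, e.apply_symm_apply]
        have h1 : B (h (e u)) (h (e v)) = B (e u) (e v) := hh (e u) (e v)
        rw [h1, he])
    refine ⟨A, ?_⟩
    apply Subtype.ext
    apply LinearEquiv.ext
    intro v
    change Φ A v = h v
    rw [hΦ, hA, h'e, e.apply_symm_apply, e.apply_symm_apply]

theorem exists_coords [Module.Finite F V] (hA : B.IsAlt) (hnd : ∀ u, (∀ v, B u v = 0) → u = 0) :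
    ∃ (k : ℕ) (e : (Fin k ⊕ Fin k → F) ≃ₗ[F] V), ∀ x y, B (e x) (e y) = sympForm k F x y := by
  obtain ⟨m, l, b, h1, h2, h3, h4⟩ := Cfsg.Agent.S0752.result B hA
  have hl : l = 0 := by
    by_contra hl
    exact b.ne_zero _ (hnd _ (h4 ⟨0, Nat.pos_of_ne_zero hl⟩))
  subst hl
  have hk : Module.finrank F V = 2 * m := by
    rw [Module.finrank_eq_card_basis b]
    simp only [two_mul, _root_.Fintype.card_sum, _root_.Fintype.card_fin, _root_.Fintype.card_eq_zero, _root_.add_zero, _root_.Nat.add_left_cancel_iff]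
  exact ⟨m, exists_linearEquiv_sympForm B hA hnd hk⟩

/-- **The symplectic group of a nondegenerate alternating form over a finite field is good.** -/
theorem good_bilin [Finite F] [Module.Finite F V] {p : ℕ} (hp : p.Prime) (hA : B.IsAlt)
    (hnd : ∀ u, (∀ v, B u v = 0) → u = 0) : Good p ↥(Iso (fun u v => B u v)) := by
  obtain ⟨k, e, he⟩ := exists_coords hA hnd
  obtain ⟨f⟩ := nonempty_symp e he
  have := Fact.mk hp
  have : Finite ↥(Iso (fun u v => B u v)) := Finite.of_equiv _ f.toEquiv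
  exact (good_symplectic hp k).congr f

end Bilin

end Cfsg.Agent.BpCl

end

-- merged: Cfsg.Agent.BpCl.Plane
section

/-!
# The orthogonal group of a nondegenerate plane is solvable (S1332, classical groups; helper80)

`J` = product `e₀ e₁` in the even Clifford algebra acting on `V`: every isometry `g` satisfies `g J = J g` or
`g J = (β - J) g`, and the isometries commuting with `J` commute with each other.
-/

set_option autoImplicit false

namespace Cfsg.Agent.BpCl.Plane

open QuadraticMap Cfsg.Agent.LieClassical.OrthCore Cfsg.Agent.LieClassical.OrthTrans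

open scoped commutatorElement

variable {F V : Type*} [Field F] [AddCommGroup V] [Module F V] {Q : QuadraticForm F V}

/-- the operator `J` -/
noncomputable def J (Q : QuadraticForm F V) (b : Module.Basis (Fin 2) F V) : V →ₗ[F] V :=
  b.constr F ![polar Q (b 0) (b 1) • b 0 - Q (b 0) • b 1, Q (b 1) • b 0]

variable {b : Module.Basis (Fin 2) F V}

theorem J_zero : J Q b (b 0) = polar Q (b 0) (b 1) • b 0 - Q (b 0) • b 1 := by
  unfold J
  rw [b.constr_basis]
  rfl

theorem J_one : J Q b (b 1) = Q (b 1) • b 0 := by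
  unfold J
  rw [b.constr_basis]
  rfl

theorem eq_coord (v : V) : v = b.repr v 0 • b 0 + b.repr v 1 • b 1 := by
  conv_lhs => rw [← b.sum_repr v, Fin.sum_univ_two]

theorem Q_comb (x y : F) : Q (x • b 0 + y • b 1) =
    Q (b 0) * x ^ 2 + polar Q (b 0) (b 1) * x * y + Q (b 1) * y ^ 2 := by
  rw [Q_add, QuadraticMap.map_smul, QuadraticMap.map_smul, polar_smul_left, polar_smul_right]
  simp only [smul_eq_mul]
  ring

theorem polar_comb (x y z w : F) : polar Q (x • b 0 + y • b 1) (z • b 0 + w • b 1) =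
    2 * Q (b 0) * x * z + polar Q (b 0) (b 1) * (x * w + z * y) + 2 * Q (b 1) * y * w := by
  rw [polar_add_left, polar_add_right, polar_add_right]
  simp only [polar_smul_left, polar_smul_right, smul_eq_mul, polar_self', polar_comm Q (b 1) (b 0)]
  ring

/-- every isometry normalises `J` -/
theorem dichotomy (hQ : Nondeg Q) {g : V ≃ₗ[F] V} (hg : g ∈ O Q) :
    (∀ v, g (J Q b v) = J Q b (g v)) ∨ ∀ v, g (J Q b v) = polar Q (b 0) (b 1) • g v - J Q b (g v) := by
  obtain ⟨a, c, h0⟩ : ∃ a c : F, g (b 0) = a • b 0 + c • b 1 := ⟨_, _, eq_coord _⟩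
  obtain ⟨b', d, h1⟩ : ∃ b' d : F, g (b 1) = b' • b 0 + d • b 1 := ⟨_, _, eq_coord _⟩
  have R1 := hg (b 0)
  have R2 := hg (b 1)
  have R3 := polar_map hg (b 0) (b 1)
  rw [h0, Q_comb] at R1
  rw [h1, Q_comb] at R2
  rw [h0, h1, polar_comb] at R3
  -- the discriminant is not zero
  have hdisc : polar Q (b 0) (b 1) ^ 2 - 4 * Q (b 0) * Q (b 1) ≠ 0 := by
    intro h
    by_cases hz : (2 : F) * Q (b 0) = 0 ∧ polar Q (b 0) (b 1) = 0
    · apply b.ne_zero 0
      apply hQ
      intro w
      have h2 := polar_comb (Q := Q) (b := b) 1 0 (b.repr w 0) (b.repr w 1)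
      rw [one_smul, zero_smul, add_zero, ← eq_coord w] at h2
      rw [h2, hz.2, hz.1]
      ring
    · apply hz
      have h2 : polar Q (b 0) (b 1) • b 0 + (-(2 * Q (b 0))) • b 1 = 0 := by
        apply hQ
        intro w
        rw [eq_coord w (b := b), polar_comb]
        linear_combination (b.repr w 1) * h
      have h3 := congrArg (fun v => (b.repr v 0, b.repr v 1)) h2
      simp only [map_add, map_smul, b.repr_self, Finsupp.add_apply, Finsupp.smul_apply, Finsupp.single_apply,
        map_zero, Finsupp.zero_apply, Prod.mk.injEq, smul_eq_mul] at h3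
      obtain ⟨h4, h5⟩ := h3
      constructor
      · simpa only [_root_.Fin.isValue, _root_.mul_eq_zero, _root_.zero_ne_one, ↓ _root_.reduceIte, _root_.MulZeroClass.mul_zero, _root_.mul_one, _root_.zero_add, _root_.neg_eq_zero] using h5
      · simpa only [_root_.Fin.isValue, ↓ _root_.reduceIte, _root_.mul_one, _root_.one_ne_zero, _root_.MulZeroClass.mul_zero, _root_.add_zero] using h4
  have hD2 : (a * d - b' * c) ^ 2 = 1 := by
    apply mul_left_cancel₀ hdisc
    linear_combination ((2 * Q (b 0) * a * b' + polar Q (b 0) (b 1) * (a * d + b' * c) + 2 * Q (b 1) * c * d) +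
      polar Q (b 0) (b 1)) * R3 -
      4 * (Q (b 0) * b' ^ 2 + polar Q (b 0) (b 1) * b' * d + Q (b 1) * d ^ 2) * R1 - 4 * Q (b 0) * R2
  have hss : (Q (b 0) * a * b' + Q (b 1) * c * d + polar Q (b 0) (b 1) * b' * c) *
      (Q (b 0) * a * b' + Q (b 1) * c * d + polar Q (b 0) (b 1) * b' * c - polar Q (b 0) (b 1)) = 0 := by
    linear_combination (Q (b 0) * a * b' + Q (b 1) * c * d + polar Q (b 0) (b 1) * b' * c) * R3 -
      (Q (b 0) * b' ^ 2 + polar Q (b 0) (b 1) * b' * d + Q (b 1) * d ^ 2) * R1 - Q (b 0) * R2 +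
      Q (b 0) * Q (b 1) * hD2
  have h2s : 2 * (Q (b 0) * a * b' + Q (b 1) * c * d + polar Q (b 0) (b 1) * b' * c) =
      polar Q (b 0) (b 1) * (1 - (a * d - b' * c)) := by
    linear_combination R3
  have hDD : a * d - b' * c = 1 ∨ a * d - b' * c = -1 := by
    have h : (a * d - b' * c - 1) * (a * d - b' * c + 1) = 0 := by linear_combination hD2
    rcases mul_eq_zero.1 h with h | h
    · exact Or.inl (sub_eq_zero.1 h)
    · exact Or.inr (eq_neg_of_add_eq_zero_left h)
  have hcase : (a * d - b' * c = 1 ∧ Q (b 0) * a * b' + Q (b 1) * c * d + polar Q (b 0) (b 1) * b' * c = 0) ∨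
      (a * d - b' * c = -1 ∧
        Q (b 0) * a * b' + Q (b 1) * c * d + polar Q (b 0) (b 1) * b' * c = polar Q (b 0) (b 1)) := by
    rcases mul_eq_zero.1 hss with hs | hs
    · by_cases hb : polar Q (b 0) (b 1) = 0
      · rcases hDD with h | h
        · exact Or.inl ⟨h, hs⟩
        · exact Or.inr ⟨h, by rw [hs, hb]⟩
      · left
        refine ⟨?_, hs⟩
        rw [hs, mul_zero] at h2s
        rcases mul_eq_zero.1 h2s.symm with h | h
        · exact absurd h hb
        · exact (sub_eq_zero.1 h).symm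
    · have hs' := sub_eq_zero.1 hs
      by_cases hb : polar Q (b 0) (b 1) = 0
      · rcases hDD with h | h
        · exact Or.inl ⟨h, by rw [hs', hb]⟩
        · exact Or.inr ⟨h, hs'⟩
      · right
        refine ⟨?_, hs'⟩
        rw [hs', mul_comm] at h2s
        have h3 := mul_left_cancel₀ hb h2s
        linear_combination h3
  -- it is enough to check the basis
  rcases hcase with ⟨hD, hs⟩ | ⟨hD, hs⟩
  · left
    have key : g.toLinearMap ∘ₗ J Q b = J Q b ∘ₗ g.toLinearMap := by
      apply b.ext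
      intro i
      fin_cases i
      · change g (J Q b (b 0)) = J Q b (g (b 0))
        rw [J_zero, map_sub, map_smul, map_smul, h0, h1, map_add, map_smul, map_smul, J_zero, J_one]
        have e1 : -(Q (b 0) * b') = c * Q (b 1) := by
          linear_combination b' * R1 + Q (b 1) * c * hD - a * hs
        have e2 : polar Q (b 0) (b 1) * c - Q (b 0) * d = -(a * Q (b 0)) := by
          linear_combination d * R1 - c * hs - (Q (b 0) * a + polar Q (b 0) (b 1) * c) * hD
        have e3 : polar Q (b 0) (b 1) • (a • b 0 + c • b 1) - Q (b 0) • (b' • b 0 + d • b 1) =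
            (polar Q (b 0) (b 1) * a + -(Q (b 0) * b')) • b 0 +
              (polar Q (b 0) (b 1) * c - Q (b 0) * d) • b 1 := by module
        rw [e3, e1, e2]
        module
      · change g (J Q b (b 1)) = J Q b (g (b 1))
        rw [J_one, map_smul, h0, h1, map_add, map_smul, map_smul, J_zero, J_one]
        have e1 : Q (b 1) * a = b' * polar Q (b 0) (b 1) + d * Q (b 1) := by
          linear_combination b' * R3 - a * R2 + Q (b 1) * d * hD - b' * hs
        have e2 : Q (b 1) * c = -(b' * Q (b 0)) := by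
          linear_combination -b' * R1 - Q (b 1) * c * hD + a * hs
        rw [smul_add, smul_smul, smul_smul, e1, e2]
        module
    exact fun v => LinearMap.congr_fun key v
  · right
    have key : g.toLinearMap ∘ₗ J Q b = polar Q (b 0) (b 1) • g.toLinearMap - J Q b ∘ₗ g.toLinearMap := by
      apply b.ext
      intro i
      fin_cases i
      · change g (J Q b (b 0)) = polar Q (b 0) (b 1) • g (b 0) - J Q b (g (b 0))
        rw [J_zero, map_sub, map_smul, map_smul, h0, h1, map_add, map_smul, map_smul, J_zero, J_one]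
        have e1 : polar Q (b 0) (b 1) * a - Q (b 0) * b' = -(c * Q (b 1)) := by
          linear_combination b' * R1 + Q (b 1) * c * hD - a * hs
        have e2 : -(Q (b 0) * d) = a * Q (b 0) := by
          linear_combination d * R1 - c * hs - (Q (b 0) * a + polar Q (b 0) (b 1) * c) * hD
        have e3 : polar Q (b 0) (b 1) • (a • b 0 + c • b 1) - Q (b 0) • (b' • b 0 + d • b 1) =
            (polar Q (b 0) (b 1) * a - Q (b 0) * b') • b 0 +
              (polar Q (b 0) (b 1) * c + -(Q (b 0) * d)) • b 1 := by module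
        rw [e3, e1, e2]
        module
      · change g (J Q b (b 1)) = polar Q (b 0) (b 1) • g (b 1) - J Q b (g (b 1))
        rw [J_one, map_smul, h0, h1, map_add, map_smul, map_smul, J_zero, J_one]
        have e1 : Q (b 1) * a = -(d * Q (b 1)) := by
          linear_combination b' * R3 - a * R2 + Q (b 1) * d * hD - b' * hs
        have e2 : Q (b 1) * c = polar Q (b 0) (b 1) * d + b' * Q (b 0) := by
          linear_combination d * R3 - c * R2 - d * hs - (Q (b 0) * b' + polar Q (b 0) (b 1) * d) * hD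
        rw [smul_add, smul_smul, smul_smul, e1, e2]
        module
    exact fun v => LinearMap.congr_fun key v

/-- The orthogonal group of a nondegenerate plane is solvable. -/
theorem isSolvable (hQ : Nondeg Q) (hd : Module.finrank F V = 2) : Group.IsSolvable ↥(O Q) := by
  classical
  have : Module.Finite F V := Module.finite_of_finrank_pos (by omega)
  -- a basis with `Q (b 0) ≠ 0`
  obtain ⟨x, hx⟩ : ∃ x : V, Q x ≠ 0 := by
    by_contra hcon
    push Not at hcon
    have : Nontrivial V := Module.nontrivial_of_finrank_pos (R := F) (by omega)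
    obtain ⟨v, hv⟩ := exists_ne (0 : V)
    apply hv
    apply hQ
    intro w
    unfold polar
    rw [hcon, hcon, hcon]
    ring
  have hx0 : x ≠ 0 := by
    rintro rfl
    exact hx (QuadraticMap.map_zero Q)
  obtain ⟨y, hy⟩ := exists_linearIndependent_pair_of_one_lt_finrank (R := F) (x := x) (by omega) hx0
  let b : Module.Basis (Fin 2) F V := basisOfLinearIndependentOfCardEqFinrank hy (by rw [hd]; rfl)
  have hb0 : b 0 = x := by
    change (basisOfLinearIndependentOfCardEqFinrank hy _) 0 = x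
    rw [coe_basisOfLinearIndependentOfCardEqFinrank]
    rfl
  let A : Subgroup ↥(O Q) :=
    { carrier := {g | ∀ v, g.1 (J Q b v) = J Q b (g.1 v)}
      mul_mem' := fun {g h} hg hh v => by
        change g.1 (h.1 (J Q b v)) = J Q b (g.1 (h.1 v))
        rw [hh, hg]
      one_mem' := fun v => rfl
      inv_mem' := fun {g} hg v => by
        have e : ∀ w, g.1 ((g⁻¹).1 w) = w := fun w => g.1.apply_symm_apply w
        apply g.1.injective
        rw [e, hg, e] }
  have hA : ∀ g h : ↥(O Q), g ∈ A → h ∈ A → g * h = h * g := by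
    intro g h hg hh
    -- everything commuting with `J` is of the form `s + t J`
    have form : ∀ g : ↥(O Q), g ∈ A → ∃ s t : F, ∀ v, g.1 v = s • v + t • J Q b v := by
      intro g hg
      have h0 : Q (b 0) ≠ 0 := by rw [hb0]; exact hx
      refine ⟨b.repr (g.1 (b 0)) 0 + b.repr (g.1 (b 0)) 1 * (Q (b 0))⁻¹ * polar Q (b 0) (b 1),
        -(b.repr (g.1 (b 0)) 1 * (Q (b 0))⁻¹), ?_⟩
      set s := b.repr (g.1 (b 0)) 0 + b.repr (g.1 (b 0)) 1 * (Q (b 0))⁻¹ * polar Q (b 0) (b 1) with hs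
      set t := -(b.repr (g.1 (b 0)) 1 * (Q (b 0))⁻¹) with ht
      have e0 : g.1 (b 0) = s • b 0 + t • J Q b (b 0) := by
        conv_lhs => rw [eq_coord (b := b) (g.1 (b 0))]
        rw [J_zero, hs, ht]
        have : -(b.repr (g.1 (b 0)) 1 * (Q (b 0))⁻¹) • (polar Q (b 0) (b 1) • b 0 - Q (b 0) • b 1) =
            -(b.repr (g.1 (b 0)) 1 * (Q (b 0))⁻¹ * polar Q (b 0) (b 1)) • b 0 +
              (b.repr (g.1 (b 0)) 1 * ((Q (b 0))⁻¹ * Q (b 0))) • b 1 := by module
        rw [this, inv_mul_cancel₀ h0]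
        module
      have eJ : g.1 (J Q b (b 0)) = s • J Q b (b 0) + t • J Q b (J Q b (b 0)) := by
        rw [hg, e0, map_add, map_smul, map_smul]
      have hb1 : b 1 = (polar Q (b 0) (b 1) * (Q (b 0))⁻¹) • b 0 - (Q (b 0))⁻¹ • J Q b (b 0) := by
        rw [J_zero]
        have : (Q (b 0))⁻¹ • (polar Q (b 0) (b 1) • b 0 - Q (b 0) • b 1) =
            (polar Q (b 0) (b 1) * (Q (b 0))⁻¹) • b 0 - ((Q (b 0))⁻¹ * Q (b 0)) • b 1 := by module
        rw [this, inv_mul_cancel₀ h0]
        module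
      have e1 : g.1 (b 1) = s • b 1 + t • J Q b (b 1) := by
        (rewrite [hb1, map_sub, map_smul, map_smul, e0, eJ]; simp only [map_sub]; (conv => enter [@3, @6, @6, @5]; rw [map_smul]); simp only [map_smul])
        module
      intro v
      rw [eq_coord (b := b) v, map_add, map_smul, map_smul, e0, e1, map_add, map_smul, map_smul]
      module
    obtain ⟨s, t, h1⟩ := form g hg
    obtain ⟨s', t', h2⟩ := form h hh
    apply Subtype.ext
    apply LinearEquiv.ext
    intro v
    change g.1 (h.1 v) = h.1 (g.1 v)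
    rw [h1, h2, h1, h2, map_add, map_add, map_smul, map_smul, map_smul, map_smul]
    module
  have hcomm : ∀ g h : ↥(O Q), ⁅g, h⁆ ∈ A := by
    -- the sign homomorphism
    have hinv : ∀ g : ↥(O Q), (∀ v, g.1 (J Q b v) = polar Q (b 0) (b 1) • g.1 v - J Q b (g.1 v)) →
        ∀ v, (g⁻¹).1 (J Q b v) = polar Q (b 0) (b 1) • (g⁻¹).1 v - J Q b ((g⁻¹).1 v) := by
      intro g hg v
      have e : ∀ w, g.1 ((g⁻¹).1 w) = w := fun w => g.1.apply_symm_apply w
      apply g.1.injective
      rw [map_sub, map_smul, e, e, hg, e]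
      module
    intro g h v
    change g.1 (h.1 ((g⁻¹).1 ((h⁻¹).1 (J Q b v)))) = J Q b (g.1 (h.1 ((g⁻¹).1 ((h⁻¹).1 v))))
    rcases dichotomy (b := b) hQ g.2 with hg | hg <;> rcases dichotomy (b := b) hQ h.2 with hh | hh
    · have hg' : ∀ v, (g⁻¹).1 (J Q b v) = J Q b ((g⁻¹).1 v) := A.inv_mem (x := g) hg
      have hh' : ∀ v, (h⁻¹).1 (J Q b v) = J Q b ((h⁻¹).1 v) := A.inv_mem (x := h) hh
      rw [hh', hg', hh, hg]
    · have hg' : ∀ v, (g⁻¹).1 (J Q b v) = J Q b ((g⁻¹).1 v) := A.inv_mem (x := g) hg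
      have hh' := hinv h hh
      simp only [hh', map_sub, map_smul, hg', hh, hg]
      module
    · have hh' : ∀ v, (h⁻¹).1 (J Q b v) = J Q b ((h⁻¹).1 v) := A.inv_mem (x := h) hh
      have hg' := hinv g hg
      simp only [hh', map_sub, map_smul, hg', hh, hg]
      module
    · have hg' := hinv g hg
      have hh' := hinv h hh
      simp only [hh', map_sub, map_smul, hg', hh, hg]
      module
  have hle : commutator ↥(O Q) ≤ A := by
    rw [commutator_def, Subgroup.commutator_le]
    exact fun g _ h _ => hcomm g h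
  refine ⟨2, ?_⟩
  rw [derivedSeries_succ, eq_bot_iff, Subgroup.commutator_le]
  intro g hg h hh
  rw [derivedSeries_one] at hg hh
  rw [Subgroup.mem_bot, commutatorElement_eq_one_iff_mul_comm]
  exact hA g h (hle hg) (hle hh)

end Cfsg.Agent.BpCl.Plane

end

-- merged: Cfsg.Agent.BpCl.Orth
section

/-!
# The orthogonal groups are good (S1332, classical groups; helper80)

`good_O` : `Good p (O Q)` for every quadratic form with nondegenerate polar form over a finite field, in all dimensions.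
-/

set_option autoImplicit false

namespace Cfsg.Agent.BpCl

open Subgroup Cfsg Cfsg.Agent.BpTab QuadraticMap
open Cfsg.Agent.LieClassical.OrthCore Cfsg.Agent.LieClassical.OrthTrans Cfsg.Agent.LieClassical.OrthSimple

open scoped commutatorElement

section General

variable {H : Type*} [Group H] [Finite H] {p : ℕ}

theorem good_of_quasisimple (hp : p.Prime) (h : IsQuasisimple H) : _root_.Cfsg.Agent.BpTab.Good p H := by
  refine good_of_dichotomy hp fun N hN => ?_
  have := h.2
  have hperf : commutator H = ⊤ := h.1.1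
  rcases (hN.map (QuotientGroup.mk' (center H)) (QuotientGroup.mk'_surjective _)).eq_bot_or_eq_top with h1 | h1
  · left
    rwa [Subgroup.map_eq_bot_iff, QuotientGroup.ker_mk'] at h1
  · right
    have h2 : N ⊔ center H = ⊤ := by
      have h3 := congrArg (Subgroup.comap (QuotientGroup.mk' (center H))) h1
      rwa [Subgroup.comap_map_eq, QuotientGroup.ker_mk', Subgroup.comap_top] at h3
    rw [eq_top_iff, ← hperf, commutator_def, Subgroup.commutator_le]
    intro x _ y _
    obtain ⟨n, hn, z, hz, rfl⟩ := (Subgroup.mem_sup_of_normal_right (s := N) (t := center H)).1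
      (show x ∈ N ⊔ center H by rw [h2]; exact mem_top x)
    obtain ⟨n', hn', z', hz', rfl⟩ := (Subgroup.mem_sup_of_normal_right (s := N) (t := center H)).1
      (show y ∈ N ⊔ center H by rw [h2]; exact mem_top y)
    have e : ⁅n * z, n' * z'⁆ = ⁅n, n'⁆ := by
      have hz1 := Subgroup.mem_center_iff.1 hz
      have hz2 := Subgroup.mem_center_iff.1 hz'
      rw [commutatorElement_def, commutatorElement_def, mul_inv_rev, mul_inv_rev]
      calc n * z * (n' * z') * (z⁻¹ * n⁻¹) * (z'⁻¹ * n'⁻¹)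
          = n * (z * (n' * z')) * (z⁻¹ * n⁻¹) * (z'⁻¹ * n'⁻¹) := by group
        _ = n * ((n' * z') * z) * (z⁻¹ * n⁻¹) * (z'⁻¹ * n'⁻¹) := by rw [hz1]
        _ = n * n' * (z' * n⁻¹) * (z'⁻¹ * n'⁻¹) := by group
        _ = n * n' * (n⁻¹ * z') * (z'⁻¹ * n'⁻¹) := by rw [hz2]
        _ = n * n' * n⁻¹ * n'⁻¹ := by group
    rw [e]
    exact N.mul_mem (N.mul_mem (N.mul_mem hn hn') (N.inv_mem hn)) (N.inv_mem hn')

/-- A group with a normal good subgroup containing all commutators. -/
theorem good_of_commutator_le {N : Subgroup H} (hN : commutator H ≤ N) (h : _root_.Cfsg.Agent.BpTab.Good p ↥N) : _root_.Cfsg.Agent.BpTab.Good p H := by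
  have hn : N.Normal := Subgroup.Normal.of_commutator_le _ hN
  refine Good.of_solvable_quotient (N := N) h ?_
  have : ∀ a b : H ⧸ N, a * b = b * a := by
    intro a b
    obtain ⟨x, rfl⟩ := QuotientGroup.mk_surjective a
    obtain ⟨y, rfl⟩ := QuotientGroup.mk_surjective b
    rw [← QuotientGroup.mk_mul, ← QuotientGroup.mk_mul, QuotientGroup.eq]
    apply hN
    have e : (x * y)⁻¹ * (y * x) = ⁅y⁻¹, x⁻¹⁆ := by
      rw [commutatorElement_def]
      group
    rw [e]
    exact Subgroup.commutator_mem_commutator (mem_top _) (mem_top _)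
  exact Group.isSolvable_of_comm this

end General

section SLTwo

variable {F : Type*} [Field F] [Finite F] {p : ℕ}

theorem good_SL_two (hp : p.Prime) : _root_.Cfsg.Agent.BpTab.Good p (Matrix.SpecialLinearGroup (Fin 2) F) := by
  have := Fintype.ofFinite F
  have := Fact.mk hp
  by_cases h4 : 4 ≤ Nat.card F
  · exact good_of_quasisimple hp (SignalizersComponents.SLQuasisimple.isQuasisimple_two h4)
  apply good_of_solvable
  have hcard := Cfsg.Agent.S0276.card_sl_two (F := F) rfl
  rw [Nat.card_eq_fintype_card] at h4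
  have hq : 2 ≤ Fintype.card F := Fintype.one_lt_card
  generalize Fintype.card F = q at *
  have hq4 : q < 4 := by omega
  interval_cases q
  · refine Cfsg.Agent.S0144.result 2 3 1 1 Nat.prime_two Nat.prime_three ?_
    rw [hcard]; norm_num
  · refine Cfsg.Agent.S0144.result 2 3 3 1 Nat.prime_two Nat.prime_three ?_
    rw [hcard]; norm_num

end SLTwo

section Orth

variable {F V : Type*} [Field F] [AddCommGroup V] [Module F V] {Q : QuadraticForm F V} {p : ℕ}

theorem Iso_Q (Q : V → F) : Iso (fun u _ => Q u) = LieClassical.OrthFourCommon.isom Q := by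
  ext h
  exact ⟨fun hh v => hh v v, fun hh v _ => hh v⟩

theorem O_eq_isom (Q : QuadraticForm F V) : O Q = LieClassical.OrthFourCommon.isom (⇑Q) := by
  ext h
  exact Iff.rfl

theorem Iso_eq_O (Q : QuadraticForm F V) : Iso (fun u _ => Q u) = O Q := by
  rw [Iso_Q, O_eq_isom]

theorem finite_O [Finite F] [Module.Finite F V] (Q : QuadraticForm F V) : Finite ↥(O Q) := by
  have : Finite V := Module.finite_of_finite F
  have : Finite (V ≃ₗ[F] V) := Finite.of_injective (fun h : V ≃ₗ[F] V => (h : V → V)) DFunLike.coe_injective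
  infer_instance

theorem nonempty_of_sim {ι : Type} [Fintype ι] [DecidableEq ι] {q : (ι → F) → F} (h : GenOrth.Sim Q q) :
    Nonempty (Cfsg.isometryGroup F q ≃* ↥(O Q)) := by
  obtain ⟨c, hc, j, hj⟩ := h
  obtain ⟨e⟩ := LieClassical.OrthFourCommon.exists_isometryGroup_equiv j q (fun v => c⁻¹ * Q v) (fun v => by
    rw [hj, inv_mul_cancel_left₀ hc])
  refine ⟨e.trans (MulEquiv.subgroupCongr ?_)⟩
  ext g
  constructor
  · intro h v
    exact mul_left_cancel₀ (inv_ne_zero hc) (h v)
  · intro h v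
    change c⁻¹ * Q (g v) = c⁻¹ * Q v
    rw [h v]

theorem two_ne_zero_of_odd {k : ℕ} (hQ : Nondeg Q) (h : GenOrth.Sim Q (Cfsg.quadFormOdd k F)) : (2 : F) ≠ 0 := by
  obtain ⟨c, hc, j, hj⟩ := h
  intro h2
  have hpol : ∀ u v, polar Q (j u) (j v) = c * polar (LieClassical.OrthForms.oddForm k F) u v := by
    intro u v
    unfold polar
    rw [← map_add, hj, hj, hj, LieClassical.OrthForms.coe_oddForm]
    ring
  have h1 : j (Pi.single (Sum.inl ()) 1) = 0 := by
    apply hQ
    intro w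
    obtain ⟨w, rfl⟩ := j.surjective w
    rw [hpol, LieClassical.OrthForms.polar_oddForm]
    simp only [h2, _root_.Pi.single_eq_same, _root_.mul_one, _root_.MulZeroClass.zero_mul, _root_.ne_eq, _root_.reduceCtorEq, _root_.not_false_eq_true, _root_.Pi.single_eq_of_ne, _root_.MulZeroClass.mul_zero, _root_.add_zero, _root_.Finset.sum_const_zero]
  have h3 := j.map_eq_zero_iff.1 h1
  have h4 := congrFun h3 (Sum.inl ())
  simp at h4

variable [Finite F]

theorem good_three (hp : p.Prime) (h2 : (2 : F) ≠ 0) : _root_.Cfsg.Agent.BpTab.Good p ↥(Cfsg.isometryGroup F (Cfsg.quadFormOdd 1 F)) := by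
  have := Fact.mk hp
  have hF : ∃ a : F, a ≠ 0 ∧ a ≠ 1 := by
    refine ⟨-1, neg_ne_zero.2 one_ne_zero, fun h => h2 ?_⟩
    linear_combination -h
  have hG : _root_.Cfsg.Agent.BpTab.Good p ↥(Cfsg.Omega F (Cfsg.quadFormOdd 1 F)) := by
    refine BpLin.good_of_central_ker (good_SL_two (F := F) hp)
      (LieClassical.OrthThreeOmega.psiOmega_surjective hF) ?_
    rw [← LieClassical.OrthThreeOmega.ker_eq hF h2]
    intro s hs
    (rewrite [MonoidHom.mem_ker]; (conv => enter [@2]; rw [MonoidHom.comp_apply]); (conv => enter [@2, @6]; rw [MonoidHom.mem_ker.1 hs]); simp only [map_one])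
  exact good_of_commutator_le le_rfl hG

theorem good_four_plus (hp : p.Prime) : _root_.Cfsg.Agent.BpTab.Good p ↥(Cfsg.isometryGroup F (Cfsg.quadFormPlus 2 F)) := by
  have := Fact.mk hp
  obtain ⟨ε⟩ := LieClassical.OrthFourCommon.exists_isometryGroup_equiv (LieClassical.OrthFourPlus.coord F)
    (Cfsg.quadFormPlus 2 F) (LieClassical.OrthFourPlus.dt F) LieClassical.OrthFourPlus.coord_det
  have : Finite ↥(LieClassical.OrthFourCommon.isom (LieClassical.OrthFourPlus.dt F)) := Finite.of_equiv _ ε.toEquiv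
  refine Good.congr ?_ ε.symm
  refine good_of_commutator_le LieClassical.OrthFourPlus.commutator_le ?_
  refine BpLin.good_of_central_ker (f := LieClassical.OrthFourPlus.phi.rangeRestrict)
    ((good_SL_two (F := F) hp).prod (good_SL_two (F := F) hp)) (MonoidHom.rangeRestrict_surjective _) ?_
  rw [MonoidHom.ker_rangeRestrict]
  intro s hs
  have hs1 : LieClassical.OrthFourPlus.phi s = 1 := hs
  have h1 := LieClassical.OrthFourPlus.fst_eq_snd_of_phi_eq_one hs1
  -- `s.1` commutes with every matrix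
  have h2 : ∀ X : Matrix (Fin 2) (Fin 2) F, (s.1 : Matrix (Fin 2) (Fin 2) F) * X = X * s.1 := by
    intro X
    have h3 : (LieClassical.OrthFourPlus.phi s).1 X = X := by rw [hs1]; rfl
    change ((s.1.toGL : GL (Fin 2) F) : Matrix (Fin 2) (Fin 2) F) * X *
      ((s.2.toGL⁻¹ : GL (Fin 2) F) : Matrix (Fin 2) (Fin 2) F) = X at h3
    have h4 : ((s.1.toGL : GL (Fin 2) F) : Matrix (Fin 2) (Fin 2) F) * X =
        X * ((s.2.toGL : GL (Fin 2) F) : Matrix (Fin 2) (Fin 2) F) := by
      conv_rhs => rw [← h3]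
      rw [mul_assoc, mul_assoc, Units.inv_mul, mul_one]
    rw [← h1] at h4
    exact h4
  have h3 : ∀ t : Matrix.SpecialLinearGroup (Fin 2) F, s.1 * t = t * s.1 := fun t => Subtype.ext (h2 t)
  rw [Subgroup.mem_center_iff]
  intro t
  refine Prod.ext ?_ ?_
  · exact (h3 t.1).symm
  · change t.2 * s.2 = s.2 * t.2
    rw [← h1]
    exact (h3 t.2).symm

theorem good_four_minus (hp : p.Prime) {a b : F} (hab : GenOrth.Aniso a b) :
    _root_.Cfsg.Agent.BpTab.Good p ↥(Cfsg.isometryGroup F (Cfsg.quadFormMinus 1 F a b)) := by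
  have := Fact.mk hp
  have : Fact (∀ r : F, r ^ 2 ≠ -b + a * r) := ⟨fun r hr => by
    have := (hab (-r) 1 (by linear_combination hr)).2
    exact one_ne_zero this⟩
  have hfin : Finite (LieClassical.OrthFourMinus.E F (-b) a) := Finite.of_equiv _ (QuadraticAlgebra.equivProd (-b) a).symm
  obtain ⟨ε⟩ := LieClassical.OrthFourCommon.exists_isometryGroup_equiv (LieClassical.OrthFourMinus.coord F (-b) a)
    (Cfsg.quadFormMinus 1 F a b) (LieClassical.OrthFourMinus.Q (-b) a) (LieClassical.OrthFourMinus.Q_coord a b)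
  have : Finite ↥(LieClassical.OrthFourCommon.isom (LieClassical.OrthFourMinus.Q (-b) a)) :=
    Finite.of_equiv _ ε.toEquiv
  refine Good.congr ?_ ε.symm
  refine good_of_commutator_le (LieClassical.OrthFourMinus.commutator_le'
    (LieClassical.OrthFourMinus.exists_eq LieClassical.OrthFourMinus.norm_surjective)) ?_
  refine BpLin.good_of_central_ker (f := LieClassical.OrthFourMinus.phi.rangeRestrict)
    (good_SL_two (F := LieClassical.OrthFourMinus.E F (-b) a) hp) (MonoidHom.rangeRestrict_surjective _) ?_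
  rw [MonoidHom.ker_rangeRestrict]
  intro s hs
  exact LieClassical.OrthFourMinus.mem_center_of_phi_eq_one hs

theorem good_big (hp : p.Prime) [Module.Finite F V] (hQ : Nondeg Q) (hd : 5 ≤ Module.finrank F V) :
    _root_.Cfsg.Agent.BpTab.Good p ↥(O Q) := by
  have := Fact.mk hp
  have := finite_O Q
  have hG := LieClassical.OrthFinite.good_of_finite hQ hd
  have hle : E Q ≤ O Q := E_le_O
  have hfin : Finite ↥(E Q) := Finite.of_injective _ (Subgroup.inclusion_injective hle)
  have hq : IsQuasisimple ↥(E Q) := by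
    refine ⟨⟨?_⟩, good_isSimpleGroup hG⟩
    rw [← (Subgroup.map_injective (E Q).subtype_injective).eq_iff, commutator_def,
      Subgroup.map_commutator, ← MonoidHom.range_eq_map, Subgroup.range_subtype, hG.E_perfect]
  refine good_of_commutator_le (N := (E Q).subgroupOf (O Q)) ?_ ?_
  · rw [commutator_def, Subgroup.commutator_le]
    intro x _ y _
    rw [Subgroup.mem_subgroupOf]
    exact hG.commutator_le_E (Subgroup.commutator_mem_commutator x.2 y.2)
  · exact (good_of_quasisimple hp hq).congr (Subgroup.subgroupOfEquivOfLe hle).symm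

/-- **The orthogonal group of a nondegenerate quadratic form over a finite field is good.** -/
theorem good_O (hp : p.Prime) [Module.Finite F V] (hQ : Nondeg Q) : _root_.Cfsg.Agent.BpTab.Good p ↥(O Q) := by
  have := Fact.mk hp
  have hfin := finite_O Q
  by_cases h5 : 5 ≤ Module.finrank F V
  · exact good_big hp hQ h5
  have hN := GenOrth.normal_form (Module.finrank F V) hQ rfl
  have hlt : Module.finrank F V < 5 := by omega
  generalize hn : Module.finrank F V = n at *
  have h01 : n ≤ 1 → Group.IsSolvable ↥(O Q) := by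
    intro hn1
    apply Group.isSolvable_of_comm
    intro g h
    apply Subtype.ext
    apply LinearEquiv.ext
    intro v
    change g.1 (h.1 v) = h.1 (g.1 v)
    rcases Nat.eq_zero_or_pos n with h0 | h0
    · have : Subsingleton V := Module.finrank_zero_iff.1 (hn.trans h0)
      exact Subsingleton.elim _ _
    · obtain ⟨w, hw0, hw⟩ := finrank_eq_one_iff'.1 (show Module.finrank F V = 1 by omega)
      obtain ⟨s, hs⟩ := hw (g.1 w)
      obtain ⟨t, ht⟩ := hw (h.1 w)
      obtain ⟨c, rfl⟩ := hw v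
      rw [map_smul, map_smul, map_smul, map_smul, ← hs, ← ht, map_smul, map_smul, ← hs, ← ht, smul_comm s t]
  interval_cases n
  · exact good_of_solvable (h01 (by norm_num))
  · exact good_of_solvable (h01 (by norm_num))
  · exact good_of_solvable (Plane.isSolvable hQ hn)
  · rcases hN with ⟨k, hk, hs⟩ | ⟨k, hk, -⟩ | ⟨k, hk, -⟩
    · have hk1 : k = 1 := by omega
      subst hk1
      obtain ⟨e⟩ := nonempty_of_sim hs
      exact (good_three hp (two_ne_zero_of_odd hQ hs)).congr e
    · omega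
    · omega
  · rcases hN with ⟨k, hk, -⟩ | ⟨k, hk, hs⟩ | ⟨k, hk, a, b, hab, hs⟩
    · omega
    · have hk1 : k = 2 := by omega
      subst hk1
      obtain ⟨e⟩ := nonempty_of_sim hs
      exact (good_four_plus hp).congr e
    · have hk1 : k = 1 := by omega
      subst hk1
      obtain ⟨e⟩ := nonempty_of_sim hs
      exact (good_four_minus hp hab).congr e

end Orth

end Cfsg.Agent.BpCl

end

-- merged: Cfsg.Agent.BpCl.Split
section

/-!
# Centralizers of (semi)linear isometries of order `p` (S1332, classical groups; helper80)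

`V = C_V(g) ⊕ [V, g]`; on `C_V(g)` the full symplectic / orthogonal group, on `[V, g]` the hypothesis `GoodFree`
(isometries of an `ε`-symmetric form commuting with a fixed point free isometry of order `p`).

* `good_sp_semi`, `good_orth_semi` : `Good p (Iso f ⊓ CL F g)` for `g` a semilinear isometry with `g ^ p = 1`;
* `good_sp_scalar`, `good_orth_scalar` : the same for semisimilitudes with `g ^ p` scalar.
-/

set_option autoImplicit false

namespace Cfsg.Agent.BpCl

open Subgroup Cfsg Cfsg.Agent.BpTab QuadraticMap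
open Cfsg.Agent.LieClassical.OrthCore

universe u v

/-- The fixed point free case (helper45). -/
def GoodFree (p : ℕ) : Prop :=
  ∀ (F : Type u) (V : Type v) [Field F] [Finite F] [AddCommGroup V] [Module F V] [Module.Finite F V]
    (B : LinearMap.BilinForm F V) (ε : F), ε * ε = 1 → (∀ u v, B u v = ε * B v u) →
    (∀ u, (∀ v, B u v = 0) → u = 0) → ∀ g : V ≃ₗ[F] V, (∀ u v, B (g u) (g v) = B u v) → g ^ p = 1 →
    (p : F) ≠ 0 → (∀ v, g v = v → v = 0) → Good p ↥(Iso (fun u v => B u v) ⊓ CL F g.toEquiv)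

section Split

variable {F : Type u} {V : Type v} [Field F] [AddCommGroup V] [Module F V] {p : ℕ}

/-- Restriction of a group of linear maps to an invariant submodule. -/
def resW (C : Subgroup (V ≃ₗ[F] V)) (W : Submodule F V) (hW : ∀ h ∈ C, ∀ v ∈ W, h v ∈ W) : ↥C →* (W ≃ₗ[F] W) where
  toFun h :=
    { toFun := fun w => ⟨h.1 w, hW _ h.2 _ w.2⟩
      invFun := fun w => ⟨(h⁻¹).1 w, hW _ (h⁻¹).2 _ w.2⟩
      map_add' := fun u v => Subtype.ext (map_add h.1 (u : V) v)
      map_smul' := fun a u => Subtype.ext (map_smul h.1 a (u : V))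
      left_inv := fun u => Subtype.ext (h.1.symm_apply_apply _)
      right_inv := fun u => Subtype.ext (h.1.apply_symm_apply _) }
  map_one' := rfl
  map_mul' _ _ := rfl

/-- Restriction of a permutation. -/
def permW (g : Equiv.Perm V) (W : Submodule F V) (h1 : ∀ v ∈ W, g v ∈ W) (h2 : ∀ v ∈ W, g.symm v ∈ W) :
    Equiv.Perm W where
  toFun w := ⟨g w, h1 _ w.2⟩
  invFun w := ⟨g.symm w, h2 _ w.2⟩
  left_inv w := Subtype.ext (g.symm_apply_apply _)
  right_inv w := Subtype.ext (g.apply_symm_apply _)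

theorem exists_sum {W0 W1 : Submodule F V} (hc : IsCompl W0 W1) (v : V) : ∃ (w0 : W0) (w1 : W1), v = w0 + w1 := by
  obtain ⟨a, ha, b, hb, h⟩ := Submodule.mem_sup.1 (show v ∈ W0 ⊔ W1 by rw [hc.sup_eq_top]; exact Submodule.mem_top)
  exact ⟨⟨a, ha⟩, ⟨b, hb⟩, h.symm⟩

/-- The direct sum of two linear automorphisms. -/
theorem exists_glue {W0 W1 : Submodule F V} (hc : IsCompl W0 W1) (T0 : W0 ≃ₗ[F] W0) (T1 : W1 ≃ₗ[F] W1) :
    ∃ h : V ≃ₗ[F] V, ∀ (w0 : W0) (w1 : W1), h (w0 + w1) = T0 w0 + T1 w1 := by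
  let e := Submodule.prodEquivOfIsCompl W0 W1 hc
  refine ⟨(e.symm.trans (T0.prodCongr T1)).trans e, fun w0 w1 => ?_⟩
  have h1 : ((w0 : V) + w1) = e (w0, w1) := by
    rw [Submodule.coe_prodEquivOfIsCompl']
  rw [h1]
  change e ((T0.prodCongr T1) (e.symm (e (w0, w1)))) = _
  rw [e.symm_apply_apply, Submodule.coe_prodEquivOfIsCompl']
  rfl

theorem finite_subgroup [Finite F] [Module.Finite F V] (C : Subgroup (V ≃ₗ[F] V)) : Finite ↥C := by
  have : Finite V := Module.finite_of_finite F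
  have : Finite (V ≃ₗ[F] V) := Finite.of_injective (fun h : V ≃ₗ[F] V => (h : V → V)) DFunLike.coe_injective
  infer_instance

theorem good_split [Finite F] [Module.Finite F V] (hp : p.Prime) {f : V → V → F} {W0 W1 : Submodule F V}
    (hc : IsCompl W0 W1)
    (hsum : ∀ u0 v0 : W0, ∀ u1 v1 : W1, f ((u0 : V) + u1) ((v0 : V) + v1) = f u0 v0 + f u1 v1)
    {g : Equiv.Perm V} (hadd : ∀ u v, g (u + v) = g u + g v) (hg0 : ∀ v ∈ W0, g v = v)
    (hg1 : ∀ v ∈ W1, g v ∈ W1) (hg1' : ∀ v ∈ W1, g.symm v ∈ W1)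
    (hC0 : ∀ h ∈ Iso f ⊓ CL F g, ∀ v ∈ W0, h v ∈ W0) (hC1 : ∀ h ∈ Iso f ⊓ CL F g, ∀ v ∈ W1, h v ∈ W1)
    (G0 : Good p ↥(Iso (fun u v : W0 => f u v)))
    (G1 : Good p ↥(Iso (fun u v : W1 => f u v) ⊓ CL F (permW g W1 hg1 hg1'))) :
    Good p ↥(Iso f ⊓ CL F g) := by
  have := Fact.mk hp
  have : Finite V := Module.finite_of_finite F
  have hf0 : Finite (V ≃ₗ[F] V) := Finite.of_injective (fun h : V ≃ₗ[F] V => (h : V → V)) DFunLike.coe_injective
  have hf1 : Finite (W0 ≃ₗ[F] W0) := Finite.of_injective (fun h : W0 ≃ₗ[F] W0 => (h : W0 → W0)) DFunLike.coe_injective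
  have hf2 : Finite (W1 ≃ₗ[F] W1) := Finite.of_injective (fun h : W1 ≃ₗ[F] W1 => (h : W1 → W1)) DFunLike.coe_injective
  let r0' := resW (Iso f ⊓ CL F g) W0 hC0
  let r1' := resW (Iso f ⊓ CL F g) W1 hC1
  have m0 : ∀ h, r0' h ∈ Iso (fun u v : W0 => f u v) := fun h u v => h.2.1 u v
  have m1 : ∀ h, r1' h ∈ Iso (fun u v : W1 => f u v) ⊓ CL F (permW g W1 hg1 hg1') := fun h =>
    ⟨fun u v => h.2.1 u v, fun v => Subtype.ext (h.2.2 v)⟩
  let r0 := r0'.codRestrict _ m0
  let r1 := r1'.codRestrict _ m1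
  -- gluing
  have glue : ∀ (T0 : ↥(Iso (fun u v : W0 => f u v)))
      (T1 : ↥(Iso (fun u v : W1 => f u v) ⊓ CL F (permW g W1 hg1 hg1'))), ∃ h, r0 h = T0 ∧ r1 h = T1 := by
    intro T0 T1
    obtain ⟨h, hh⟩ := exists_glue hc T0.1 T1.1
    have hm : h ∈ Iso f ⊓ CL F g := by
      constructor
      · intro u v
        obtain ⟨u0, u1, rfl⟩ := exists_sum hc u
        obtain ⟨v0, v1, rfl⟩ := exists_sum hc v
        rw [hh, hh, hsum, hsum]
        have e0 := T0.2 u0 v0
        have e1 := T1.2.1 u1 v1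
        dsimp only at e0 e1
        rw [e0, e1]
      · intro v
        obtain ⟨v0, v1, rfl⟩ := exists_sum hc v
        have e1 : (T1.1 (permW g W1 hg1 hg1' v1) : V) = g (T1.1 v1) := congrArg Subtype.val (T1.2.2 v1)
        have e2 : g (v1 : V) = (permW g W1 hg1 hg1' v1 : V) := rfl
        rw [hadd, hg0 _ v0.2, e2, hh, e1, hh, hadd, hg0 _ (T0.1 v0).2]
    refine ⟨⟨h, hm⟩, ?_, ?_⟩
    · apply Subtype.ext
      apply LinearEquiv.ext
      intro w
      apply Subtype.ext
      change h w = T0.1 w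
      have := hh w 0
      rwa [Submodule.coe_zero, add_zero, map_zero, Submodule.coe_zero, add_zero] at this
    · apply Subtype.ext
      apply LinearEquiv.ext
      intro w
      apply Subtype.ext
      change h w = T1.1 w
      have := hh 0 w
      rwa [Submodule.coe_zero, zero_add, map_zero, Submodule.coe_zero, zero_add] at this
  have s0 : Function.Surjective r0 := fun T => by
    obtain ⟨h, hh, -⟩ := glue T 1
    exact ⟨h, hh⟩
  have s1 : Function.Surjective r1 := fun T => by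
    obtain ⟨h, -, hh⟩ := glue 1 T
    exact ⟨h, hh⟩
  let r : ↥(Iso f ⊓ CL F g) →* ↥(Iso (fun u v : W0 => f u v)) ×
      ↥(Iso (fun u v : W1 => f u v) ⊓ CL F (permW g W1 hg1 hg1')) := r0.prod r1
  have hr : Function.Bijective r := by
    constructor
    · intro h h' hh
      have e0 : r0 h = r0 h' := congrArg Prod.fst hh
      have e1 : r1 h = r1 h' := congrArg Prod.snd hh
      apply Subtype.ext
      apply LinearEquiv.ext
      intro v
      obtain ⟨v0, v1, rfl⟩ := exists_sum hc v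
      rw [map_add, map_add]
      have e2 : h.1 (v0 : V) = h'.1 v0 :=
        congrArg Subtype.val (LinearEquiv.congr_fun (congrArg Subtype.val e0) v0)
      have e3 : h.1 (v1 : V) = h'.1 v1 :=
        congrArg Subtype.val (LinearEquiv.congr_fun (congrArg Subtype.val e1) v1)
      rw [e2, e3]
    · rintro ⟨T0, T1⟩
      obtain ⟨h, h0, h1⟩ := glue T0 T1
      exact ⟨h, Prod.ext h0 h1⟩
  exact (G0.prod G1).congr (MulEquiv.ofBijective r hr).symm

end Split

/-! ### The fixed space and the commutator space -/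

section Proj

variable {F : Type u} {V : Type v} [Field F] [AddCommGroup V] [Module F V] {p : ℕ}

/-- the sum of the powers of `g` -/
def trc (g : V ≃ₗ[F] V) (p : ℕ) : V →ₗ[F] V := ∑ i ∈ Finset.range p, (g ^ i : V ≃ₗ[F] V).toLinearMap

theorem trc_apply (g : V ≃ₗ[F] V) (v : V) : trc g p v = ∑ i ∈ Finset.range p, (g ^ i) v := by
  unfold trc
  rw [LinearMap.sum_apply]
  rfl

theorem trc_fix (g : V ≃ₗ[F] V) {v : V} (h : g v = v) : trc g p v = (p : F) • v := by
  rw [trc_apply]
  have : ∀ i, (g ^ i) v = v := by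
    intro i
    induction i with
    | zero => rfl
    | succ i ih => rw [pow_succ, LinearEquiv.mul_apply, h, ih]
  rw [Finset.sum_congr rfl fun i _ => this i, Finset.sum_const, Finset.card_range, Nat.cast_smul_eq_nsmul]

theorem g_trc {g : V ≃ₗ[F] V} (hg : g ^ p = 1) (v : V) : g (trc g p v) = trc g p v := by
  rw [trc_apply, map_sum]
  have h2 := Finset.sum_range_succ (fun i => (g ^ i) v) p
  have h3 := Finset.sum_range_succ' (fun i => (g ^ i) v) p
  rw [h2, hg] at h3
  have h4 : (g ^ 0) v = (1 : V ≃ₗ[F] V) v := by rw [pow_zero]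
  rw [h4] at h3
  rw [add_right_cancel h3]
  exact Finset.sum_congr rfl fun i _ => by rw [pow_succ', LinearEquiv.mul_apply]

theorem trc_comm {g h : V ≃ₗ[F] V} (hh : ∀ v, h (g v) = g (h v)) (v : V) : h (trc g p v) = trc g p (h v) := by
  rw [trc_apply, trc_apply, map_sum]
  have : ∀ i, h ((g ^ i) v) = (g ^ i) (h v) := by
    intro i
    induction i with
    | zero => rfl
    | succ i ih => rw [pow_succ', LinearEquiv.mul_apply, hh, ih, LinearEquiv.mul_apply]
  exact Finset.sum_congr rfl fun i _ => this i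

theorem trc_g {g : V ≃ₗ[F] V} (hg : g ^ p = 1) (v : V) : trc g p (g v) = trc g p v := by
  rw [← trc_comm (h := g) (fun v => rfl), g_trc hg]

/-- the fixed space -/
def W0 (g : V ≃ₗ[F] V) : Submodule F V := LinearMap.ker (g.toLinearMap - LinearMap.id)

theorem mem_W0 {g : V ≃ₗ[F] V} {v : V} : v ∈ W0 g ↔ g v = v := by
  unfold W0
  rw [LinearMap.mem_ker, LinearMap.sub_apply, LinearMap.id_apply, sub_eq_zero]
  rfl

variable (p) in
/-- the commutator space -/
def W1 (g : V ≃ₗ[F] V) : Submodule F V := LinearMap.ker (trc g p)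

theorem mem_W1 {g : V ≃ₗ[F] V} {v : V} : v ∈ W1 p g ↔ trc g p v = 0 := LinearMap.mem_ker

theorem isCompl_W {g : V ≃ₗ[F] V} (hg : g ^ p = 1) (hp : (p : F) ≠ 0) : IsCompl (W0 g) (W1 p g) := by
  constructor
  · rw [Submodule.disjoint_def]
    intro v h0 h1
    rw [mem_W0] at h0
    rw [mem_W1, trc_fix g h0] at h1
    exact (smul_eq_zero.1 h1).resolve_left hp
  · rw [codisjoint_iff, eq_top_iff]
    intro v _
    rw [Submodule.mem_sup]
    refine ⟨(p : F)⁻¹ • trc g p v, ?_, v - (p : F)⁻¹ • trc g p v, ?_, by abel⟩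
    · exact (W0 g).smul_mem _ (mem_W0.2 (g_trc hg v))
    · rw [mem_W1, map_sub, map_smul, trc_fix g (g_trc hg v), smul_smul, inv_mul_cancel₀ hp, one_smul, sub_self]

theorem W1_map {g h : V ≃ₗ[F] V} (hh : ∀ v, h (g v) = g (h v)) {v : V} (hv : v ∈ W1 p g) : h v ∈ W1 p g := by
  rw [mem_W1] at hv ⊢
  rw [← trc_comm hh, hv, map_zero]

theorem W0_map {g h : V ≃ₗ[F] V} (hh : ∀ v, h (g v) = g (h v)) {v : V} (hv : v ∈ W0 g) : h v ∈ W0 g := by
  rw [mem_W0] at hv ⊢
  rw [← hh, hv]

/-- the restriction of `g` to the commutator space -/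
def gW1 (p : ℕ) (g : V ≃ₗ[F] V) : W1 p g ≃ₗ[F] W1 p g where
  toFun w := ⟨g w, W1_map (fun _ => rfl) w.2⟩
  invFun w := ⟨g.symm w, W1_map (h := g.symm) (fun v => by
    rw [g.symm_apply_apply, g.apply_symm_apply]) w.2⟩
  map_add' _ _ := Subtype.ext (map_add _ _ _)
  map_smul' _ _ := Subtype.ext (map_smul _ _ _)
  left_inv _ := Subtype.ext (g.symm_apply_apply _)
  right_inv _ := Subtype.ext (g.apply_symm_apply _)

theorem gW1_apply (g : V ≃ₗ[F] V) (w : W1 p g) : (gW1 p g w : V) = g w := rfl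

theorem gW1_pow {g : V ≃ₗ[F] V} (n : ℕ) (w : W1 p g) : ((gW1 p g ^ n) w : V) = (g ^ n) w := by
  induction n with
  | zero => rfl
  | succ n ih => rw [pow_succ', LinearEquiv.mul_apply, gW1_apply, ih, pow_succ', LinearEquiv.mul_apply]

theorem gW1_fixfree {g : V ≃ₗ[F] V} (hp : (p : F) ≠ 0) (w : W1 p g) (h : gW1 p g w = w) : w = 0 := by
  have h1 : g (w : V) = w := congrArg Subtype.val h
  have h2 := mem_W1.1 w.2
  rw [trc_fix g h1] at h2
  exact Subtype.ext ((smul_eq_zero.1 h2).resolve_left hp)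

/-- an additive function on `W1`, invariant under `g`, vanishes -/
theorem eq_zero_of_invariant {g : V ≃ₗ[F] V} (hp : (p : F) ≠ 0) {q : V →+ F} (hq : ∀ v, q (g v) = q v)
    {w : V} (hw : w ∈ W1 p g) : q w = 0 := by
  have h1 : q (trc g p w) = (p : F) * q w := by
    rw [trc_apply, map_sum]
    have : ∀ i, q ((g ^ i) w) = q w := by
      intro i
      induction i with
      | zero => rfl
      | succ i ih => rw [pow_succ', LinearEquiv.mul_apply, hq, ih]
    rw [Finset.sum_congr rfl fun i _ => this i, Finset.sum_const, Finset.card_range, nsmul_eq_mul]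
  rw [mem_W1.1 hw, map_zero] at h1
  exact (mul_eq_zero.1 h1.symm).resolve_left hp

end Proj

/-! ### the linear case -/

section Linear

variable {F : Type u} {V : Type v} [Field F] [AddCommGroup V] [Module F V] {p : ℕ}

theorem bilin_cross {B : LinearMap.BilinForm F V} {g : V ≃ₗ[F] V} (hg : ∀ u v, B (g u) (g v) = B u v)
    (hpF : (p : F) ≠ 0) {u v : V} (hu : u ∈ W0 g) (hv : v ∈ W1 p g) : B u v = 0 ∧ B v u = 0 := by
  constructor
  · refine eq_zero_of_invariant (q := (B u).toAddMonoidHom) hpF (fun w => ?_) hv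
    change B u (g w) = B u w
    conv_lhs => rw [← mem_W0.1 hu]
    exact hg u w
  · refine eq_zero_of_invariant (q := (B.flip u).toAddMonoidHom) hpF (fun w => ?_) hv
    change B (g w) u = B w u
    conv_lhs => rw [← mem_W0.1 hu]
    exact hg w u

theorem bilin_sum {B : LinearMap.BilinForm F V} {g : V ≃ₗ[F] V} (hg : ∀ u v, B (g u) (g v) = B u v)
    (hpF : (p : F) ≠ 0) (u0 v0 : W0 g) (u1 v1 : W1 p g) :
    B ((u0 : V) + u1) ((v0 : V) + v1) = B u0 v0 + B u1 v1 := by
  rw [LinearMap.map_add₂, map_add, map_add, (bilin_cross hg hpF u0.2 v1.2).1,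
    (bilin_cross hg hpF v0.2 u1.2).2]
  ring

theorem nondeg_W0 {B : LinearMap.BilinForm F V} {g : V ≃ₗ[F] V} (hg : ∀ u v, B (g u) (g v) = B u v)
    (hpF : (p : F) ≠ 0) (hgp : g ^ p = 1) (hnd : ∀ u, (∀ v, B u v = 0) → u = 0) (u : W0 g)
    (hu : ∀ v : W0 g, B u v = 0) : u = 0 := by
  apply Subtype.ext
  apply hnd
  intro v
  obtain ⟨v0, v1, rfl⟩ := exists_sum (isCompl_W hgp hpF) v
  rw [map_add, hu, (bilin_cross hg hpF u.2 v1.2).1, add_zero]

theorem nondeg_W1 {B : LinearMap.BilinForm F V} {g : V ≃ₗ[F] V} (hg : ∀ u v, B (g u) (g v) = B u v)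
    (hpF : (p : F) ≠ 0) (hgp : g ^ p = 1) (hnd : ∀ u, (∀ v, B u v = 0) → u = 0) (u : W1 p g)
    (hu : ∀ v : W1 p g, B u v = 0) : u = 0 := by
  apply Subtype.ext
  apply hnd
  intro v
  obtain ⟨v0, v1, rfl⟩ := exists_sum (isCompl_W hgp hpF) v
  rw [map_add, hu, (bilin_cross hg hpF v0.2 u.2).2, add_zero]

theorem symm_mem_W1 {g : V ≃ₗ[F] V} {v : V} (hv : v ∈ W1 p g) : g.toEquiv.symm v ∈ W1 p g :=
  W1_map (h := g.symm) (fun v => by rw [g.symm_apply_apply, g.apply_symm_apply]) hv

theorem permW_eq (g : V ≃ₗ[F] V) (h1 : ∀ v ∈ W1 p g, g.toEquiv v ∈ W1 p g)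
    (h2 : ∀ v ∈ W1 p g, g.toEquiv.symm v ∈ W1 p g) : permW g.toEquiv (W1 p g) h1 h2 = (gW1 p g).toEquiv := rfl

variable [Finite F] [Module.Finite F V]

/-- Symplectic groups, linear case. -/
theorem good_sp_lin (GF : GoodFree.{u, v} p) (hp : p.Prime) (hpF : (p : F) ≠ 0) {B : LinearMap.BilinForm F V}
    (hA : B.IsAlt) (hnd : ∀ u, (∀ v, B u v = 0) → u = 0) {g : V ≃ₗ[F] V}
    (hg : ∀ u v, B (g u) (g v) = B u v) (hgp : g ^ p = 1) :
    Good p ↥(Iso (fun u v => B u v) ⊓ CL F g.toEquiv) := by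
  refine good_split hp (isCompl_W hgp hpF) (fun u0 v0 u1 v1 => bilin_sum hg hpF u0 v0 u1 v1)
    (fun u v => map_add g u v) (fun v hv => mem_W0.1 hv) (fun v hv => W1_map (h := g) (fun _ => rfl) hv)
    (fun v hv => symm_mem_W1 hv) (fun h hh v hv => W0_map hh.2 hv) (fun h hh v hv => W1_map hh.2 hv) ?_ ?_
  · exact good_bilin (B := B.restrict (W0 g)) hp (fun u => hA u) (nondeg_W0 hg hpF hgp hnd)
  · rw [permW_eq]
    refine GF F (W1 p g) (B.restrict (W1 p g)) (-1) (by ring) (fun u v => ?_) (nondeg_W1 hg hpF hgp hnd) (gW1 p g)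
      (fun u v => hg u v) ?_ hpF (gW1_fixfree hpF)
    · rw [neg_one_mul]
      exact (hA.neg_eq (v : V) u).symm
    · apply LinearEquiv.ext
      intro w
      apply Subtype.ext
      rw [gW1_pow, hgp]
      rfl

omit [Finite F] [Module.Finite F V] in
/-- On the commutator space the isometries of the polar form commuting with `g` preserve `Q`. -/
theorem quad_of_polar {Q : QuadraticForm F V} {g : V ≃ₗ[F] V} (hg : ∀ v, Q (g v) = Q v) (hpF : (p : F) ≠ 0)
    {h : W1 p g ≃ₗ[F] W1 p g} (hh : ∀ u v : W1 p g, polar Q (h u) (h v) = polar Q (u : V) v)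
    (hc : ∀ v, h (gW1 p g v) = gW1 p g (h v)) (w : W1 p g) : Q (h w) = Q w := by
  let q : W1 p g →+ F :=
    { toFun := fun v => Q (h v) - Q v
      map_zero' := by rw [map_zero, Submodule.coe_zero, QuadraticMap.map_zero, sub_self]
      map_add' := fun u v => by
        rw [map_add, Submodule.coe_add, Submodule.coe_add, QuadraticMap.map_add Q, QuadraticMap.map_add Q, hh]
        ring }
  -- `q (p • v) = q (sum) = p q(v)` on the commutator space
  have hsum : ∀ n : ℕ, ∀ v : W1 p g, q (∑ i ∈ Finset.range n, (gW1 p g ^ i) v) = n * q v := by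
    intro n v
    rw [map_sum]
    have : ∀ i, q ((gW1 p g ^ i) v) = q v := by
      intro i
      induction i with
      | zero => rfl
      | succ i ih =>
        rw [pow_succ', LinearEquiv.mul_apply]
        change Q (h (gW1 p g ((gW1 p g ^ i) v))) - Q (gW1 p g ((gW1 p g ^ i) v)) = q v
        rw [hc, gW1_apply, gW1_apply, hg, hg]
        exact ih
    rw [Finset.sum_congr rfl fun i _ => this i, Finset.sum_const, Finset.card_range, nsmul_eq_mul]
  have h0 : ∑ i ∈ Finset.range p, (gW1 p g ^ i) w = 0 := by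
    apply Subtype.ext
    rw [AddSubmonoidClass.coe_finsetSum, Submodule.coe_zero, ← mem_W1.1 w.2, trc_apply]
    exact Finset.sum_congr rfl fun i _ => gW1_pow i w
  have h1 := hsum p w
  rw [h0, map_zero] at h1
  have h2 := (mul_eq_zero.1 h1.symm).resolve_left hpF
  exact sub_eq_zero.1 h2

/-- Orthogonal groups, linear case. -/
theorem good_orth_lin (GF : GoodFree.{u, v} p) (hp : p.Prime) (hpF : (p : F) ≠ 0) {Q : QuadraticForm F V}
    (hQ : Nondeg Q) {g : V ≃ₗ[F] V} (hg : ∀ v, Q (g v) = Q v) (hgp : g ^ p = 1) :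
    Good p ↥(Iso (fun u _ => Q u) ⊓ CL F g.toEquiv) := by
  have hgB : ∀ u v, polarBilin Q (g u) (g v) = polarBilin Q u v := by
    intro u v
    change polar Q (g u) (g v) = polar Q u v
    unfold polar
    rw [← map_add, hg, hg, hg]
  refine good_split hp (isCompl_W hgp hpF) (fun u0 v0 u1 v1 => ?_)
    (fun u v => map_add g u v) (fun v hv => mem_W0.1 hv) (fun v hv => W1_map (h := g) (fun _ => rfl) hv)
    (fun v hv => symm_mem_W1 hv) (fun h hh v hv => W0_map hh.2 hv) (fun h hh v hv => W1_map hh.2 hv) ?_ ?_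
  · have h1 : polar Q (u0 : V) u1 = 0 := (bilin_cross hgB hpF u0.2 u1.2).1
    rw [QuadraticMap.map_add Q, h1, add_zero]
  · have h1 : Nondeg (Q.comp (W0 g).subtype) := by
      intro u hu
      exact nondeg_W0 hgB hpF hgp (fun u hu => hQ u hu) u (fun v => hu v)
    have h2 := good_O (Q := Q.comp (W0 g).subtype) hp h1
    rw [← Iso_eq_O] at h2
    exact h2
  · rw [permW_eq]
    have h1 : Iso (fun u _ : W1 p g => Q u) ⊓ CL F (gW1 p g).toEquiv =
        Iso (fun u v : W1 p g => LinearMap.BilinForm.restrict (polarBilin Q) (W1 p g) u v) ⊓ CL F (gW1 p g).toEquiv := by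
      ext h
      constructor
      · rintro ⟨h1, h2⟩
        refine ⟨fun u v => ?_, h2⟩
        have e : ∀ w : W1 p g, Q (h w) = Q w := fun w => h1 w w
        change polar Q (h u : V) (h v) = polar Q (u : V) v
        unfold polar
        have e2 := e (u + v)
        rw [map_add, Submodule.coe_add, Submodule.coe_add] at e2
        rw [e2, e, e]
      · rintro ⟨h1, h2⟩
        exact ⟨fun u _ => quad_of_polar hg hpF (h := h) (fun u v => h1 u v) (fun v => h2 v) u, h2⟩
    rw [h1]
    refine GF F (W1 p g) (LinearMap.BilinForm.restrict (polarBilin Q) (W1 p g)) 1 (by ring) (fun u v => ?_)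
      (nondeg_W1 hgB hpF hgp (fun u hu => hQ u hu)) (gW1 p g) (fun u v => hgB u v) ?_ hpF (gW1_fixfree hpF)
    · rw [one_mul]
      exact polar_comm Q (u : V) v
    · apply LinearEquiv.ext
      intro w
      apply Subtype.ext
      rw [gW1_pow, hgp]
      rfl

end Linear

/-! ### semilinear case -/

section Semilinear

variable {F : Type u} {V : Type v} [Field F] [AddCommGroup V] [Module F V] {p : ℕ}

/-- a semilinear map with trivial field automorphism -/
theorem exists_linear {g : Equiv.Perm V} (hg : Semi (RingEquiv.refl F) g) : ∃ g' : V ≃ₗ[F] V, g'.toEquiv = g :=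
  ⟨{ toFun := g
     invFun := g.symm
     map_add' := hg.add
     map_smul' := fun a v => hg.smul a v
     left_inv := g.left_inv
     right_inv := g.right_inv }, rfl⟩

theorem lin_pow {g' : V ≃ₗ[F] V} (n : ℕ) (v : V) : (g' ^ n) v = ((g'.toEquiv : Equiv.Perm V) ^ n) v := by
  induction n with
  | zero => rfl
  | succ n ih =>
    rw [pow_succ', LinearEquiv.mul_apply, ih, pow_succ', Equiv.Perm.mul_apply]
    rfl

variable [Finite F] [Module.Finite F V]

theorem good_sp_semi (GF : GoodFree.{u, v} p) (hp : p.Prime) (hpF : (p : F) ≠ 0) {B : LinearMap.BilinForm F V}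
    (hA : B.IsAlt) (hnd : ∀ u, (∀ v, B u v = 0) → u = 0) {g : Equiv.Perm V} {φ : F ≃+* F}
    (hg : SemiIso (fun u v => B u v) φ 1 g) (hgp : g ^ p = 1) (hφ : ∀ a, φ^[p] a = a) :
    Good p ↥(Iso (fun u v => B u v) ⊓ CL F g) := by
  have := Fact.mk hp
  by_cases hφ1 : φ = RingEquiv.refl F
  · subst hφ1
    obtain ⟨g', rfl⟩ := exists_linear hg.toSemi
    refine good_sp_lin GF hp hpF hA hnd (g := g') (fun u v => ?_) ?_
    · have := hg.form u v
      rwa [one_mul] at this
    · apply LinearEquiv.ext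
      intro v
      rw [lin_pow, hgp]
      rfl
  · have hspan := span_U hg.toSemi hp hgp hφ hφ1
    obtain ⟨e⟩ := nonempty_bilin hg hspan
    obtain ⟨ι, hι, b, b0, hb⟩ := exists_basis hg.toSemi hspan
    have : Module.Finite (K0 φ) (U hg.toSemi) := Module.Finite.of_basis b0
    have := finite_subgroup (F := F) (Iso (fun u v => B u v) ⊓ CL F g)
    have := finite_subgroup (F := K0 φ) (Iso (fun u v => bilin0 hg u v))
    exact (good_bilin (B := bilin0 hg) hp (fun u => Subtype.ext (hA u)) (bilin0_nondeg hg hspan hnd)).congr e.symm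

theorem good_orth_semi (GF : GoodFree.{u, v} p) (hp : p.Prime) (hpF : (p : F) ≠ 0) {Q : QuadraticForm F V}
    (hQ : Nondeg Q) {g : Equiv.Perm V} {φ : F ≃+* F}
    (hg : SemiIso (fun u _ => Q u) φ 1 g) (hgp : g ^ p = 1) (hφ : ∀ a, φ^[p] a = a) :
    Good p ↥(Iso (fun u _ => Q u) ⊓ CL F g) := by
  have := Fact.mk hp
  by_cases hφ1 : φ = RingEquiv.refl F
  · subst hφ1
    obtain ⟨g', rfl⟩ := exists_linear hg.toSemi
    refine good_orth_lin GF hp hpF hQ (g := g') (fun v => ?_) ?_
    · have := hg.form v v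
      rwa [one_mul] at this
    · apply LinearEquiv.ext
      intro v
      rw [lin_pow, hgp]
      rfl
  · have hspan := span_U hg.toSemi hp hgp hφ hφ1
    obtain ⟨e⟩ := nonempty_quad hg hspan
    obtain ⟨ι, hι, b, b0, hb⟩ := exists_basis hg.toSemi hspan
    have : Module.Finite (K0 φ) (U hg.toSemi) := Module.Finite.of_basis b0
    have := finite_subgroup (F := F) (Iso (fun u _ => Q u) ⊓ CL F g)
    have := finite_subgroup (F := K0 φ) (Iso (fun u _ => quad0 hg u))
    have hnd : Nondeg (quad0 hg) := by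
      intro u hu
      refine bilin0_nondeg (semiIso_polar hg) hspan (fun u hu => hQ u hu) u fun v => ?_
      exact hu v
    have h2 := good_O (Q := quad0 hg) hp hnd
    rw [← Iso_eq_O] at h2
    exact h2.congr e.symm

/-- **Symplectic groups**: semisimilitudes with scalar `p`-th power. -/
theorem good_sp_scalar (GF : GoodFree.{u, v} p) (hp : p.Prime) (hp2 : p ≠ 2) (hpF : (p : F) ≠ 0)
    {B : LinearMap.BilinForm F V} (hA : B.IsAlt) (hnd : ∀ u, (∀ v, B u v = 0) → u = 0) (hV : ∃ v : V, v ≠ 0)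
    {g : Equiv.Perm V} {φ : F ≃+* F} {c a : F} (hg : SemiIso (fun u v => B u v) φ c g) (hc : c ≠ 0) (ha : a ≠ 0)
    (hga : ∀ v, (g ^ p) v = a • v) : Good p ↥(Iso (fun u v => B u v) ⊓ CL F g) := by
  have hne : ∃ u v, B u v ≠ 0 := by
    by_contra hcon
    push Not at hcon
    obtain ⟨v, hv⟩ := hV
    exact hv (hnd v (hcon v))
  obtain ⟨μ, g', hμ, hg', hg'p, hφ, t, ht, hgt⟩ := exists_normal (hp.odd_of_ne_two hp2) ha hc hg
    (fun t u v => by rw [map_smul, map_smul, LinearMap.smul_apply, smul_eq_mul, smul_eq_mul]; ring) hne hga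
  have e1 : Iso (fun u v => B u v) ⊓ CL F g = Iso (fun u v => (μ • B) u v) ⊓ CL F g' := by
    rw [CL_eq_of_smul ht hgt]
    congr 1
    exact (Iso_smul hμ).symm
  rw [e1]
  refine good_sp_semi GF hp hpF (B := μ • B) (fun u => ?_) (fun u hu => hnd u fun v => ?_) hg' hg'p hφ
  · rw [LinearMap.smul_apply, LinearMap.smul_apply, hA u, smul_zero]
  · exact (mul_eq_zero.1 (hu v)).resolve_left hμ

/-- **Orthogonal groups**: semisimilitudes with scalar `p`-th power. -/
theorem good_orth_scalar (GF : GoodFree.{u, v} p) (hp : p.Prime) (hp2 : p ≠ 2) (hpF : (p : F) ≠ 0)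
    {Q : QuadraticForm F V} (hQ : Nondeg Q) (hV : ∃ v : V, v ≠ 0)
    {g : Equiv.Perm V} {φ : F ≃+* F} {c a : F} (hg : SemiIso (fun u _ => Q u) φ c g) (hc : c ≠ 0) (ha : a ≠ 0)
    (hga : ∀ v, (g ^ p) v = a • v) : Good p ↥(Iso (fun u _ => Q u) ⊓ CL F g) := by
  have hne : ∃ u _v : V, Q u ≠ 0 := by
    by_contra hcon
    push Not at hcon
    obtain ⟨v, hv⟩ := hV
    apply hv
    apply hQ
    intro w
    unfold polar
    rw [hcon _ v, hcon _ v, hcon _ v]
    ring
  obtain ⟨μ, g', hμ, hg', hg'p, hφ, t, ht, hgt⟩ := exists_normal (hp.odd_of_ne_two hp2) ha hc hg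
    (fun t u v => by rw [QuadraticMap.map_smul, smul_eq_mul]; ring) hne hga
  have e1 : Iso (fun u _ => Q u) ⊓ CL F g = Iso (fun u _ => (μ • Q) u) ⊓ CL F g' := by
    rw [CL_eq_of_smul ht hgt]
    congr 1
    exact (Iso_smul hμ).symm
  rw [e1]
  refine good_orth_semi GF hp hpF (Q := μ • Q) (fun u hu => hQ u fun v => ?_) hg' hg'p hφ
  have h1 := hu v
  have h2 : polar (⇑(μ • Q)) u v = μ * polar (⇑Q) u v := by
    unfold polar
    simp only [_root_.smul_apply, smul_eq_mul]
    ring
  rw [h2] at h1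
  exact (mul_eq_zero.1 h1).resolve_left hμ

end Semilinear

end Cfsg.Agent.BpCl

end

-- merged: Cfsg.Agent.BpCl.Row
section

/-!
# Rows of S1332: `PSp` and `POmega`, characteristic different from `p` (helper80)

* `psp : BpS p (PSp m F)`, `omega_odd`, `omega_plus`, `omega_minus` : `BpS p (POmega ..)` modulo `GoodFree p`.
-/

set_option autoImplicit false

namespace Cfsg.Agent.BpCl

open Subgroup Cfsg Cfsg.Agent.BpTab QuadraticMap

universe u v

section General

variable {p : ℕ}

/-- An element of prime order larger than the index of `R` lies in `R`. -/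
theorem mem_of_index_lt {G : Type*} [Group G] {R : Subgroup G} (h0 : R.index ≠ 0) (hp : p.Prime)
    (hlt : R.index < p) {x : G} (hx : orderOf x = p) : x ∈ R := by
  obtain ⟨n, hn0, hn, hm⟩ := Subgroup.exists_pow_mem_of_index_ne_zero h0 x
  have hcop : Nat.Coprime n p := by
    rw [Nat.coprime_comm, Nat.Prime.coprime_iff_not_dvd hp]
    exact fun hd => absurd (Nat.le_of_dvd hn0 hd) (by omega)
  obtain ⟨k, hk⟩ := exists_pow_eq_self_of_coprime (x := x) (n := n) (by rwa [hx])
  rw [← hk]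
  exact R.pow_mem hm k

theorem bpS_congr {K K' : Type*} [Group K] [Group K'] [Finite K] [Finite K'] (hp : p.Prime) (e : K ≃* K')
    (h : BpS p K) : BpS p K' := by
  intro x hx
  have := Fact.mk hp
  let x' : MulAut K := MulAut.congr e.symm x
  have hx' : orderOf x' = p := by
    rw [← hx]
    exact orderOf_injective (MulAut.congr e.symm).toMonoidHom (MulAut.congr e.symm).injective x
  have h1 := h x' hx'
  have h2 : ∀ k, x' k = e.symm (x (e k)) := fun _ => rfl
  let ε : ↥(fixedSubgroup x') ≃* ↥(fixedSubgroup x) :=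
    { toFun := fun k => ⟨e k, by
        have h3 : x' k.1 = k.1 := k.2
        rw [h2] at h3
        change x (e k) = e k
        have h4 := congrArg e h3
        rwa [e.apply_symm_apply] at h4⟩
      invFun := fun k => ⟨e.symm k, by
        have h3 : x k.1 = k.1 := k.2
        change x' (e.symm k) = e.symm k
        rw [h2, e.apply_symm_apply, h3]⟩
      left_inv := fun k => Subtype.ext (e.symm_apply_apply _)
      right_inv := fun k => Subtype.ext (e.apply_symm_apply _)
      map_mul' := fun a b => Subtype.ext (map_mul e _ _) }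
  exact h1.congr ε

end General

/-! ### symplectic groups -/

section Symp

open Cfsg.Agent.ClassicalGeometry.SympBasic Cfsg.Agent.ClassicalGeometry.SympAutSemi
  Cfsg.Agent.ClassicalGeometry.SympGamma

variable {F : Type u} [Field F] {m p : ℕ}

/-- The symplectic matrices as linear automorphisms. -/
def spLin (m : ℕ) (F : Type*) [Field F] : ↥(Matrix.symplecticGroup (Fin m) F) →*
    ((Fin m ⊕ Fin m → F) ≃ₗ[F] (Fin m ⊕ Fin m → F)) where
  toFun A :=
    { toFun := fun v => rho m F A v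
      invFun := fun v => rho m F A⁻¹ v
      map_add' := fun u v => (isSemi_rho A).1 u v
      map_smul' := fun c v => (isSemi_rho A).2.1 c v
      left_inv := fun v => by
        change rho m F A⁻¹ (rho m F A v) = v
        rw [map_inv, perm_inv_apply_self]
      right_inv := fun v => by
        change rho m F A (rho m F A⁻¹ v) = v
        rw [map_inv, perm_apply_inv_self] }
  map_one' := by
    apply LinearEquiv.ext
    intro v
    change rho m F 1 v = v
    rw [map_one, Equiv.Perm.one_apply]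
  map_mul' A C := by
    apply LinearEquiv.ext
    intro v
    change rho m F (A * C) v = rho m F A (rho m F C v)
    rw [map_mul, Equiv.Perm.mul_apply]

theorem spLin_apply (A : Matrix.symplecticGroup (Fin m) F) (v : Fin m ⊕ Fin m → F) :
    spLin m F A v = rho m F A v := rfl

theorem spLin_injective : Function.Injective (spLin m F) := by
  intro A C h
  apply rho_injective
  ext1 v
  exact LinearEquiv.congr_fun h v

theorem map_fixed (g : semiSim m F) :
    (fixedSubgroup (conjHom m F g)).map (spLin m F) =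
      Iso (fun u v => sympBilin m F u v) ⊓ CL F g.1 := by
  ext h
  constructor
  · rintro ⟨A, hA, rfl⟩
    constructor
    · intro u v
      exact sympForm_rho A u v
    · intro v
      have h1 : conjHom m F g A = A := hA
      have h2 := rho_conjHom g A
      rw [h1] at h2
      have h3 : rho m F A (g.1 v) = g.1 (rho m F A v) := by
        conv_lhs => rw [h2, Equiv.Perm.mul_apply, Equiv.Perm.mul_apply, perm_inv_apply_self]
      exact h3
  · rintro ⟨h1, h2⟩
    obtain ⟨A, hA⟩ := exists_rho_eq h.toEquiv (fun u v => map_add h u v) (fun a v => map_smul h a v)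
      (fun u v => h1 u v)
    refine ⟨A, ?_, ?_⟩
    · change conjHom m F g A = A
      apply rho_injective
      rw [rho_conjHom, hA]
      ext1 v
      rw [Equiv.Perm.mul_apply, Equiv.Perm.mul_apply]
      have h3 := h2 (g.1⁻¹ v)
      rw [perm_apply_inv_self] at h3
      exact h3.symm
    · apply LinearEquiv.ext
      intro v
      rw [spLin_apply, hA]
      rfl

theorem psp_of_mem [Finite F] (GF : GoodFree.{u, u} p) (hm : 1 ≤ m) (hp : p.Prime) (hp2 : p ≠ 2) (hpF : (p : F) ≠ 0)
    {x : MulAut (PSp m F)} (hx : orderOf x = p) (hr : x ∈ (Psi m F).range) : Good p ↥(fixedSubgroup x) := by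
  have := Fact.mk hp
  obtain ⟨g, rfl⟩ := hr
  obtain ⟨φ, l, hl, hg⟩ := g.2
  have h1 : Psi m F (g ^ p) = 1 := by rw [map_pow, ← hx, pow_orderOf_eq_one]
  obtain ⟨a, ha⟩ := exists_scal_of_Psi_eq_one hm (g ^ p) h1
  have hga : ∀ v, (g.1 ^ p) v = (a : F) • v := by
    intro v
    have h2 : (g ^ p).1 = g.1 ^ p := rfl
    rw [← h2, ha, scal_apply]
  have hs : SemiIso (fun u v => sympBilin m F u v) φ l g.1 :=
    { add := hg.1, smul := hg.2.1, form := hg.2.2 }
  have hV : ∃ v : Fin m ⊕ Fin m → F, v ≠ 0 := by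
    refine ⟨Pi.single (Sum.inl ⟨0, hm⟩) 1, fun h => ?_⟩
    have := congrFun h (Sum.inl ⟨0, hm⟩)
    rw [Pi.single_eq_same] at this
    exact one_ne_zero this
  have key := good_sp_scalar GF hp hp2 hpF (B := sympBilin m F) (fun v => sympForm_self v)
    (fun u hu => eq_zero_of_forall_sympForm_right hu) hV hs hl a.ne_zero hga
  rw [← map_fixed] at key
  have hfin := finite_subgroup (F := F) ((fixedSubgroup (conjHom m F g)).map (spLin m F))
  have h2 : Good p ↥(fixedSubgroup (conjHom m F g)) :=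
    key.congr ((fixedSubgroup (conjHom m F g)).equivMapOfInjective _ spLin_injective).symm
  exact BpLin.good_fixed_quotient_center (fun A => (Psi_mk g A).symm) h2

theorem index_Psi_le [Finite F] (hm : 2 ≤ m) (h22 : m = 2 → 3 ≤ Nat.card F) :
    (Psi m F).range.index ≠ 0 ∧ (Psi m F).range.index ≤ 2 := by
  have := Fintype.ofFinite F
  have hB : ∀ α : MulAut (PSp m F), Cfsg.Agent.ClassicalGeometry.AutPSpCount.Pres α →
      α ∈ (Psi m F).range := by
    intro α hα
    obtain ⟨g, hg⟩ := Cfsg.Agent.ClassicalGeometry.SympAutExists.exists_semi hm α hα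
    exact ⟨g, hg⟩
  by_cases hcase : m = 2 ∧ (2 : F) = 0
  · obtain ⟨rfl, h2⟩ := hcase
    have hchar : CharP F 2 := by
      obtain ⟨p, hp⟩ := CharP.exists F
      have h3 : p ∣ 2 := (CharP.cast_eq_zero_iff F p 2).1 (by exact_mod_cast h2)
      have h4 : p.Prime := CharP.char_is_prime F p
      rwa [(Nat.prime_dvd_prime_iff_eq h4 Nat.prime_two).1 h3] at hp
    have ht : ∃ t : F, t ≠ 0 ∧ t ≠ 1 := by
      by_contra hcon
      push Not at hcon
      have h3 : Fintype.card F ≤ 2 := by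
        classical
        have : (Finset.univ : Finset F) ⊆ {0, 1} := by
          intro t _
          by_cases h0 : t = 0
          · simp only [h0, _root_.Finset.mem_insert, _root_.Finset.mem_singleton, _root_.zero_ne_one, _root_.or_false]
          · simp only [hcon t h0, _root_.Finset.mem_insert, _root_.one_ne_zero, _root_.Finset.mem_singleton, _root_.or_true]
        exact (Finset.card_le_card this).trans (Finset.card_le_two)
      have h4 := h22 rfl
      rw [Nat.card_eq_fintype_card] at h4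
      omega
    rw [Cfsg.Agent.ClassicalGeometry.SympAutTwo.index_two ht hB]
    exact ⟨by norm_num, le_rfl⟩
  · have htop : (Psi m F).range = ⊤ := by
      rw [eq_top_iff]
      intro α _
      apply hB
      refine Cfsg.Agent.ClassicalGeometry.SympAutOddA.recog hm ?_ α
      by_cases hm2 : m = 2
      · right
        intro h2
        exact hcase ⟨hm2, h2⟩
      · left; omega
    rw [htop, Subgroup.index_top]
    exact ⟨by norm_num, by norm_num⟩

/-- **Row PSp.** -/
theorem psp [Finite F] (GF : GoodFree.{u, u} p) (hm : 2 ≤ m) (h22 : m = 2 → 3 ≤ Nat.card F) (hp : p.Prime) (hp2 : p ≠ 2)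
    (hpF : (p : F) ≠ 0) : BpS p (PSp m F) := by
  intro x hx
  obtain ⟨h0, h2⟩ := index_Psi_le (F := F) hm h22
  have h3 : 3 ≤ p := by
    have := hp.two_le
    omega
  exact psp_of_mem GF (by omega) hp hp2 hpF hx (mem_of_index_lt h0 hp (by omega) hx)

end Symp

/-! ### orthogonal groups -/

section Orth

open Cfsg.Agent.LieClassical.OrthCore Cfsg.Agent.LieClassical.OrthTrans
  Cfsg.Agent.LieClassical.OrthSimple Cfsg.Agent.LieClassical.OrthForms
  Cfsg.Agent.ClassicalGeometry.OrthSemi Cfsg.Agent.ClassicalGeometry.OrthSemiForms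
  Cfsg.Agent.ClassicalGeometry.SympAutSemi

variable {F : Type u} {V : Type v} [Field F] [Finite F] [AddCommGroup V] [Module F V] [Module.Finite F V]
  {Q : QuadraticForm F V} {p : ℕ}

theorem good_fixed_conjE (hp : p.Prime) (g : Gam Q) (h : _root_.Cfsg.Agent.BpTab.Good p ↥(Iso (fun u _ => Q u) ⊓ CL F g.1)) :
    _root_.Cfsg.Agent.BpTab.Good p ↥(fixedSubgroup (conjE Q g)) := by
  have := Fact.mk hp
  have hfin := finite_subgroup (F := F) (Iso (fun u _ => Q u) ⊓ CL F g.1)
  let C := Iso (fun u _ => Q u) ⊓ CL F g.1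
  have hle : E Q ⊓ CL F g.1 ≤ C := by
    refine inf_le_inf_right _ ?_
    rw [Iso_eq_O]
    exact E_le_O
  have hn : ((E Q ⊓ CL F g.1).subgroupOf C).Normal := by
    constructor
    intro n hn c
    rw [Subgroup.mem_subgroupOf] at hn ⊢
    refine ⟨conj_mem_E (Q := Q) ?_ hn.1, ?_⟩
    · have := c.2.1
      rwa [Iso_eq_O] at this
    · exact (CL F g.1).mul_mem ((CL F g.1).mul_mem c.2.2 hn.2) ((CL F g.1).inv_mem c.2.2)
  have h1 : _root_.Cfsg.Agent.BpTab.Good p ↥((E Q ⊓ CL F g.1).subgroupOf C) := h.subnormal hn.isSubnormal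
  have hfin3 := finite_subgroup (F := F) (E Q ⊓ CL F g.1)
  have h2 : _root_.Cfsg.Agent.BpTab.Good p ↥(E Q ⊓ CL F g.1) := h1.congr (Subgroup.subgroupOfEquivOfLe hle)
  have h3 : (fixedSubgroup (conjE Q g)).map (E Q).subtype = E Q ⊓ CL F g.1 := by
    ext h
    constructor
    · rintro ⟨k, hk, rfl⟩
      refine ⟨k.2, fun v => ?_⟩
      have h1 : conjE Q g k = k := hk
      have h2 : conjLin g k.1 = k.1 := congrArg Subtype.val h1
      have h3 := conjLin_apply' g k.1 v
      rw [h2] at h3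
      exact h3
    · rintro ⟨h1, h2⟩
      refine ⟨⟨h, h1⟩, ?_, rfl⟩
      change conjE Q g ⟨h, h1⟩ = ⟨h, h1⟩
      apply Subtype.ext
      rw [coe_conjE]
      apply LinearEquiv.ext
      intro v
      obtain ⟨w, rfl⟩ := g.1.surjective v
      rw [conjLin_apply']
      exact (h2 w).symm
  rw [← h3] at h2
  have hfin2 : Finite ↥(E Q) := finite_subgroup _
  have hfin4 := finite_subgroup (F := F) ((fixedSubgroup (conjE Q g)).map (E Q).subtype)
  exact h2.congr ((fixedSubgroup (conjE Q g)).equivMapOfInjective _ (E Q).subtype_injective).symm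

theorem orth_of_mem (GF : GoodFree.{u, v} p) (hG : _root_.Cfsg.Agent.LieClassical.OrthTrans.Good Q) (hp : p.Prime) (hp2 : p ≠ 2) (hpF : (p : F) ≠ 0)
    {x : MulAut (↥(E Q) ⧸ Subgroup.center ↥(E Q))} (hx : orderOf x = p) (hr : x ∈ (_root_.Cfsg.Agent.ClassicalGeometry.OrthSemi.Psi Q).range) :
    BpTab.Good p ↥(fixedSubgroup x) := by
  have := Fact.mk hp
  have hfin : Finite ↥(E Q) := finite_subgroup _
  obtain ⟨g, rfl⟩ := hr
  obtain ⟨φ, l, hg⟩ := g.2
  have h1 : _root_.Cfsg.Agent.ClassicalGeometry.OrthSemi.Psi Q (g ^ p) = 1 := by rw [map_pow, ← hx, pow_orderOf_eq_one]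
  obtain ⟨a, ha, hga⟩ := exists_scalar_of_conjE hG (g ^ p) (eq_one_of_quotAut (commutator_E hG) _ h1)
  have hs : SemiIso (fun u _ => Q u) φ l g.1 :=
    { add := hg.add, smul := hg.smul, form := fun u _ => hg.form u }
  have hV : ∃ v : V, v ≠ 0 := by
    obtain ⟨x, y, h⟩ := hG.exists_hyp
    exact ⟨x, h.left_ne⟩
  have key := good_orth_scalar GF hp hp2 hpF (Q := Q) hG.nondeg hV hs hg.ne ha
    (show ∀ v, (g.1 ^ p) v = a • v from hga)
  exact (BpLin.good_fixed_quotient_center (fun A => (_root_.Cfsg.Agent.ClassicalGeometry.OrthSemi.Psi_mk g A).symm) (good_fixed_conjE hp g key) :)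

theorem orth_of_index (GF : GoodFree.{u, v} p) (hG : _root_.Cfsg.Agent.LieClassical.OrthTrans.Good Q) (hp : p.Prime) (hp2 : p ≠ 2) (hpF : (p : F) ≠ 0)
    (h0 : (_root_.Cfsg.Agent.ClassicalGeometry.OrthSemi.Psi Q).range.index ≠ 0) (hlt : (Psi Q).range.index < p) : BpS p (↥(E Q) ⧸ Subgroup.center ↥(E Q)) := by
  intro x hx
  exact orth_of_mem GF hG hp hp2 hpF hx (mem_of_index_lt h0 hp hlt hx)

end Orth

section OrthRows

open Cfsg.Agent.LieClassical.OrthCore Cfsg.Agent.LieClassical.OrthTrans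
  Cfsg.Agent.LieClassical.OrthForms Cfsg.Agent.ClassicalGeometry.OrthSemi Cfsg.Agent.ClassicalGeometry.OrthSemiForms

variable {F : Type u} [Field F] [Finite F] {m p : ℕ}

theorem bpS_pomega {ι : Type} [Fintype ι] [DecidableEq ι] {Q : QuadraticForm F (ι → F)} (GF : GoodFree.{u, u} p)
    (hG : _root_.Cfsg.Agent.LieClassical.OrthTrans.Good Q) (hp : p.Prime) (hp2 : p ≠ 2) (hpF : (p : F) ≠ 0) (h0 : (Psi Q).range.index ≠ 0)
    (hlt : (Psi Q).range.index < p) : BpS p (Cfsg.POmega F ⇑Q) := by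
  have hfin : Finite ↥(E Q) := finite_subgroup _
  have : Finite (Cfsg.POmega F ⇑Q) := Finite.of_equiv _ (pomegaEquiv hG).symm.toEquiv
  exact bpS_congr hp (pomegaEquiv hG).symm (orth_of_index GF hG hp hp2 hpF h0 hlt)

/-- **Row POmega, odd dimension.** -/
theorem omega_odd (GF : GoodFree.{u, u} p) (hm : 3 ≤ m) (h2 : (2 : F) ≠ 0) (hp : p.Prime) (hp2 : p ≠ 2) (hpF : (p : F) ≠ 0) :
    BpS p (Cfsg.POmega F (Cfsg.quadFormOdd m F)) := by
  have := Fintype.ofFinite F
  have hG := good_odd (F := F) (m := m) (by omega) h2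
  have htop := MonoidHom.range_eq_top.2 (Cfsg.Agent.AutOrth.Final.surjective_odd hm h2)
  rw [← coe_oddForm]
  refine bpS_pomega GF hG hp hp2 hpF ?_ ?_
  · rw [htop, Subgroup.index_top]; norm_num
  · rw [htop, Subgroup.index_top]; exact hp.one_lt

/-- **Row POmega, plus type.** -/
theorem omega_plus (GF : GoodFree.{u, u} p) (hm : 4 ≤ m) (hp : p.Prime) (hp2 : p ≠ 2) (hpF : (p : F) ≠ 0)
    (h3 : m = 4 → p ≠ 3) : BpS p (Cfsg.POmega F (Cfsg.quadFormPlus m F)) := by
  have := Fintype.ofFinite F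
  have hG := good_plus (F := F) (m := m) (by omega)
  rw [← coe_plusForm]
  by_cases h4 : m = 4
  · subst h4
    refine bpS_pomega GF hG hp hp2 hpF ?_ ?_
    · rw [Cfsg.Agent.AutOrth.Final.index_plus_four]; norm_num
    · rw [Cfsg.Agent.AutOrth.Final.index_plus_four]
      have := h3 rfl
      have := hp.two_le
      omega
  · have htop := MonoidHom.range_eq_top.2 (Cfsg.Agent.AutOrth.Final.surjective_plus (F := F) (m := m) (by omega))
    refine bpS_pomega GF hG hp hp2 hpF ?_ ?_
    · rw [htop, Subgroup.index_top]; norm_num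
    · rw [htop, Subgroup.index_top]; exact hp.one_lt

/-- **Row POmega, plus type, dimension eight, `p = 3`**: automorphisms induced by semisimilitudes. -/
theorem omega_plus_four_of_mem (GF : GoodFree.{u, u} 3) (hpF : (3 : F) ≠ 0)
    {x : MulAut (↥(E (plusForm 4 F)) ⧸ Subgroup.center ↥(E (plusForm 4 F)))} (hx : orderOf x = 3)
    (hr : x ∈ (Psi (plusForm 4 F)).range) : BpTab.Good 3 ↥(fixedSubgroup x) := by
  have := Fintype.ofFinite F
  exact orth_of_mem GF (good_plus (F := F) (m := 4) (by omega)) Nat.prime_three (by norm_num)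
    (by exact_mod_cast hpF) hx hr

/-- **Row POmega, minus type.** -/
theorem omega_minus (GF : GoodFree.{u, u} p) (hm : 4 ≤ m) {a b : F}
    (hab : ∀ z₁ z₂ : F, z₁ ^ 2 + a * z₁ * z₂ + b * z₂ ^ 2 = 0 → z₁ = 0 ∧ z₂ = 0) (hp : p.Prime) (hp2 : p ≠ 2)
    (hpF : (p : F) ≠ 0) : BpS p (Cfsg.POmega F (Cfsg.quadFormMinus (m - 1) F a b)) := by
  have := Fintype.ofFinite F
  have hG := good_minus (F := F) (m := m - 1) (by omega) a b hab
  have htop := MonoidHom.range_eq_top.2 (Cfsg.Agent.AutOrth.Final.surjective_minus (F := F) (m := m - 1) (by omega) hab)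
  rw [← coe_minusForm]
  refine bpS_pomega GF hG hp hp2 hpF ?_ ?_
  · rw [htop, Subgroup.index_top]; norm_num
  · rw [htop, Subgroup.index_top]; exact hp.one_lt

end OrthRows

end Cfsg.Agent.BpCl

end

-- merged: Cfsg.Agent.BpCl.Free
section

/-!
# Isometries commuting with a fixed point free isometry of odd order `p` (S1332, classical groups; helper80)

`good_free` from `BpLin.good_unitary`: the ring is the centralizer of `g` in `End V` (semisimple, as `X ^ p - 1` is
separable), the involution is the adjoint; `g` is central, and its adjoint is `g⁻¹`.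
-/

set_option autoImplicit false

namespace Cfsg.Agent.BpCl.Free

open Subgroup Cfsg Cfsg.Agent.BpTab Cfsg.Agent.BpLin Polynomial

universe u v

section Centralizer

variable {F : Type u} {V : Type v} [Field F] [AddCommGroup V] [Module F V]

/-- the centralizer of `g` in `End V` -/
abbrev Cent (g : Module.End F V) : Subring (Module.End F V) := Subring.centralizer {g}

theorem mem_Cent {g T : Module.End F V} : T ∈ Cent g ↔ ∀ v, g (T v) = T (g v) := by
  rw [Subring.mem_centralizer_iff]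
  constructor
  · intro h v
    exact LinearMap.congr_fun (h g (Set.mem_singleton _)) v
  · intro h x hx
    rw [Set.mem_singleton_iff] at hx
    subst hx
    exact LinearMap.ext h

theorem isSemisimpleRing [Module.Finite F V] {g : Module.End F V} {p : ℕ} (hg : g ^ p = 1) (hp : (p : F) ≠ 0) :
    IsSemisimpleRing ↥(Cent g) := by
  have h1 : g.IsSemisimple := by
    refine Module.End.isSemisimple_of_squarefree_aeval_eq_zero (p := X ^ p - 1)
      (X_pow_sub_one_separable_iff.2 hp).squarefree ?_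
    rw [map_sub, map_pow, aeval_X, map_one, hg, sub_self]
  have h2 : IsSemisimpleModule F[X] (Module.AEval' g) := h1
  have h3 : IsSemisimpleRing (Module.End F[X] (Module.AEval' g)) := IsSemisimpleRing.moduleEnd ..
  let o := Module.AEval'.of g
  have hX : ∀ m : Module.AEval' g, g (o.symm m) = o.symm ((X : F[X]) • m) := fun m =>
    (Module.AEval'.of_symm_X_smul (φ := g) m).symm
  let e : Module.End F[X] (Module.AEval' g) ≃+* ↥(Cent g) :=
    { toFun := fun T => ⟨o.symm.toLinearMap ∘ₗ (T.restrictScalars F) ∘ₗ o.toLinearMap, mem_Cent.2 fun v => by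
        change g (o.symm (T (o v))) = o.symm (T (o (g v)))
        rw [hX, ← map_smul, ← Module.AEval'.X_smul_of]⟩
      invFun := fun S => LinearMap.ofAEval g (o.toLinearMap ∘ₗ S.1) (fun v => by
        change o (S.1 (g v)) = (X : F[X]) • o (S.1 v)
        rw [Module.AEval'.X_smul_of, mem_Cent.1 S.2])
      left_inv := fun T => by
        apply LinearMap.ext
        intro m
        obtain ⟨v, rfl⟩ := o.surjective m
        change o (o.symm (T (o (o.symm (o v))))) = T (o v)
        rw [o.symm_apply_apply, o.apply_symm_apply]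
      right_inv := fun S => by
        apply Subtype.ext
        apply LinearMap.ext
        intro v
        change o.symm (o (S.1 (o.symm (o v)))) = S.1 v
        rw [o.symm_apply_apply, o.symm_apply_apply]
      map_mul' := fun T S => by
        apply Subtype.ext
        apply LinearMap.ext
        intro v
        change o.symm (T (S (o v))) = o.symm (T (o (o.symm (S (o v)))))
        rw [o.apply_symm_apply]
      map_add' := fun T S => by
        apply Subtype.ext
        apply LinearMap.ext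
        intro v
        change o.symm (T (o v) + S (o v)) = o.symm (T (o v)) + o.symm (S (o v))
        rw [map_add] }
  exact e.isSemisimpleRing

end Centralizer

section Adjoint

variable {F : Type u} {V : Type v} [Field F] [AddCommGroup V] [Module F V] [Module.Finite F V]
  {B : LinearMap.BilinForm F V}

theorem exists_adj (hnd : ∀ u, (∀ v, B u v = 0) → u = 0) (T : V →ₗ[F] V) :
    ∃ S : V →ₗ[F] V, ∀ u v, B (S u) v = B u (T v) := by
  have hinj : Function.Injective B := by
    rw [injective_iff_map_eq_zero]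
    intro u hu
    exact hnd u fun v => by rw [hu]; rfl
  have hfr : Module.finrank F V = Module.finrank F (V →ₗ[F] F) := (Subspace.dual_finrank_eq (K := F) (V := V)).symm
  let e : V ≃ₗ[F] (V →ₗ[F] F) := LinearMap.linearEquivOfInjective B hinj hfr
  have he : ∀ u, e u = B u := fun _ => rfl
  refine ⟨e.symm.toLinearMap ∘ₗ (LinearMap.lcomp F F T) ∘ₗ B, fun u v => ?_⟩
  have h1 : e (e.symm ((LinearMap.lcomp F F T) (B u))) = (LinearMap.lcomp F F T) (B u) := e.apply_symm_apply _
  rw [he] at h1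
  exact LinearMap.congr_fun h1 v

/-- the adjoint -/
noncomputable def adj (hnd : ∀ u, (∀ v, B u v = 0) → u = 0) (T : V →ₗ[F] V) : V →ₗ[F] V :=
  Classical.choose (exists_adj hnd T)

theorem adj_spec (hnd : ∀ u, (∀ v, B u v = 0) → u = 0) (T : V →ₗ[F] V) (u v : V) :
    B (adj hnd T u) v = B u (T v) := Classical.choose_spec (exists_adj hnd T) u v

theorem adj_unique (hnd : ∀ u, (∀ v, B u v = 0) → u = 0) {T S : V →ₗ[F] V} (h : ∀ u v, B (S u) v = B u (T v)) :
    adj hnd T = S := by
  apply LinearMap.ext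
  intro u
  rw [← sub_eq_zero]
  apply hnd
  intro v
  rw [map_sub, LinearMap.sub_apply, adj_spec, h, sub_self]

variable {ε : F} {g : V ≃ₗ[F] V}

theorem adj_mem_Cent (hnd : ∀ u, (∀ v, B u v = 0) → u = 0) (hg : ∀ u v, B (g u) (g v) = B u v)
    {T : Module.End F V} (hT : T ∈ Cent (g : Module.End F V)) : adj hnd T ∈ Cent (g : Module.End F V) := by
  rw [mem_Cent] at hT ⊢
  intro u
  rw [← sub_eq_zero]
  apply hnd
  intro v
  obtain ⟨v, rfl⟩ := g.surjective v
  rw [map_sub, LinearMap.sub_apply, adj_spec]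
  change B (g (adj hnd T u)) (g v) - B (g u) (T (g v)) = 0
  have h1 : T (g v) = g (T v) := (hT v).symm
  rw [h1, hg, hg, adj_spec, sub_self]

/-- the adjoint involution of the centralizer of `g` -/
noncomputable def inv (hnd : ∀ u, (∀ v, B u v = 0) → u = 0) (hε : ε * ε = 1) (hB : ∀ u v, B u v = ε * B v u)
    (hg : ∀ u v, B (g u) (g v) = B u v) : RInv ↥(Cent (g : Module.End F V)) where
  toFun T := ⟨adj hnd T.1, adj_mem_Cent hnd hg T.2⟩
  map_add' T S := Subtype.ext (adj_unique hnd fun u v => by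
    change B (adj hnd T.1 u + adj hnd S.1 u) v = B u (T.1 v + S.1 v)
    rw [map_add, LinearMap.add_apply, adj_spec, adj_spec, map_add])
  map_mul' T S := Subtype.ext (adj_unique hnd fun u v => by
    change B (adj hnd S.1 (adj hnd T.1 u)) v = B u (T.1 (S.1 v))
    rw [adj_spec, adj_spec])
  invol' T := Subtype.ext (adj_unique hnd fun u v => by
    rw [hB (T.1 u) v, ← adj_spec hnd T.1 v u, hB (adj hnd T.1 v) u, ← mul_assoc, hε, one_mul])

theorem inv_coe (hnd : ∀ u, (∀ v, B u v = 0) → u = 0) (hε : ε * ε = 1) (hB : ∀ u v, B u v = ε * B v u)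
    (hg : ∀ u v, B (g u) (g v) = B u v) (T : ↥(Cent (g : Module.End F V))) :
    ((inv hnd hε hB hg T : ↥(Cent (g : Module.End F V))) : Module.End F V) = adj hnd T.1 := rfl

end Adjoint

section Main

variable {F : Type u} {V : Type v} [Field F] [Finite F] [AddCommGroup V] [Module F V] [Module.Finite F V]

/-- **Isometries commuting with a fixed point free isometry of odd prime order.** -/
theorem good_free {p : ℕ} (hp : p.Prime) (hp2 : p ≠ 2) (B : LinearMap.BilinForm F V) (ε : F) (hε : ε * ε = 1)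
    (hB : ∀ u v, B u v = ε * B v u) (hnd : ∀ u, (∀ v, B u v = 0) → u = 0) (g : V ≃ₗ[F] V)
    (hg : ∀ u v, B (g u) (g v) = B u v) (hgp : g ^ p = 1) (hpF : (p : F) ≠ 0) (hfix : ∀ v, g v = v → v = 0) :
    Good p ↥(Iso (fun u v => B u v) ⊓ CL F g.toEquiv) := by
  have := Fact.mk hp
  have hVf : Finite V := Module.finite_of_finite F
  have hEf : Finite (Module.End F V) := Finite.of_injective (fun h : Module.End F V => (h : V → V)) DFunLike.coe_injective
  have hpow : ∀ n : ℕ, ∀ v, ((g : Module.End F V) ^ n) v = (g ^ n) v := by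
    intro n
    induction n with
    | zero => intro v; rfl
    | succ n ih =>
      intro v
      rw [pow_succ', pow_succ', Module.End.mul_apply, ih]
      rfl
  have hgE : (g : Module.End F V) ^ p = 1 := by
    apply LinearMap.ext
    intro v
    rw [hpow, hgp]
    rfl
  have hss : IsSemisimpleRing ↥(Cent (g : Module.End F V)) := isSemisimpleRing hgE hpF
  set s := inv hnd hε hB hg with hs
  -- `g` is central in the centralizer
  have hgc : (g : Module.End F V) ∈ Cent (g : Module.End F V) := mem_Cent.2 fun v => rfl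
  let z : ↥(Cent (g : Module.End F V)) := ⟨(g : Module.End F V), hgc⟩
  have hz : z ∈ (Subring.center ↥(Cent (g : Module.End F V)) :) := by
    rw [Subring.mem_center_iff]
    intro T
    apply Subtype.ext
    apply LinearMap.ext
    intro v
    exact (mem_Cent.1 T.2 v).symm
  have hsz : ((s z : ↥(Cent (g : Module.End F V))) : Module.End F V) = (g.symm : V →ₗ[F] V) := by
    rw [hs, inv_coe]
    refine adj_unique hnd fun u v => ?_
    change B (g.symm u) v = B u (g v)
    rw [← hg, g.apply_symm_apply]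
  have key : Good p ↥s.U := by
    refine good_unitary s fun c hc hcc _ hc0 => ⟨z, hz, fun h => hc0 ?_⟩
    have h1 : ∀ v, g.symm (c.1 v) = g (c.1 v) := by
      intro v
      have h2 := LinearMap.congr_fun (congrArg Subtype.val h) v
      change (s z).1 (c.1 v) = g (c.1 v) at h2
      rw [hsz] at h2
      exact h2
    apply Subtype.ext
    apply LinearMap.ext
    intro v
    change c.1 v = 0
    apply hfix
    have h2 : g (g (c.1 v)) = c.1 v := by
      rw [← h1, g.apply_symm_apply]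
    -- `g² = 1` on `w`, `g^p = 1`, `p` odd
    obtain ⟨k, hk⟩ := hp.odd_of_ne_two hp2
    have h3 : ∀ k : ℕ, (g ^ (2 * k)) (c.1 v) = c.1 v := by
      intro k
      induction k with
      | zero => rfl
      | succ k ih =>
        rw [show 2 * (k + 1) = 2 * k + 1 + 1 by ring, pow_succ, pow_succ, LinearEquiv.mul_apply,
          LinearEquiv.mul_apply, h2, ih]
    have h4 : (g ^ p) (c.1 v) = g (c.1 v) := by
      rw [hk, pow_succ', LinearEquiv.mul_apply, h3]
    rw [hgp] at h4
    exact h4.symm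
  -- the isometries are the unitary elements
  let f : ↥s.U →* (V ≃ₗ[F] V) :=
    { toFun := fun w =>
        { toFun := fun v => (w.1 : ↥(Cent (g : Module.End F V))).1 v
          invFun := fun v => (((w.1⁻¹ : (↥(Cent (g : Module.End F V)))ˣ) : ↥(Cent (g : Module.End F V))).1 v :)
          map_add' := map_add _
          map_smul' := map_smul _
          left_inv := fun v => by
            have h1 : (((w.1⁻¹ * w.1 : (↥(Cent (g : Module.End F V)))ˣ)) : ↥(Cent (g : Module.End F V))) = 1 := by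
              rw [inv_mul_cancel]; rfl
            exact LinearMap.congr_fun (congrArg Subtype.val h1) v
          right_inv := fun v => by
            have h1 : (((w.1 * w.1⁻¹ : (↥(Cent (g : Module.End F V)))ˣ)) : ↥(Cent (g : Module.End F V))) = 1 := by
              rw [mul_inv_cancel]; rfl
            exact LinearMap.congr_fun (congrArg Subtype.val h1) v }
      map_one' := rfl
      map_mul' := fun _ _ => rfl }
  have hf : ∀ (w : ↥s.U) (v : V), f w v = ((w.1 : (↥(Cent (g : Module.End F V)))ˣ) : ↥(Cent (g : Module.End F V))).1 v :=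
    fun _ _ => rfl
  have hfi : Function.Injective f := by
    intro w w' h
    apply Subtype.ext
    apply Units.ext
    apply Subtype.ext
    apply LinearMap.ext
    intro v
    exact LinearEquiv.congr_fun h v
  have hfr : f.range = Iso (fun u v => B u v) ⊓ CL F g.toEquiv := by
    ext h
    constructor
    · rintro ⟨w, rfl⟩
      have hw : ((w.1 : (↥(Cent (g : Module.End F V)))ˣ) : ↥(Cent (g : Module.End F V))) *
          s ((w.1 : (↥(Cent (g : Module.End F V)))ˣ) : ↥(Cent (g : Module.End F V))) = 1 := w.2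
      have hw' : s ((w.1 : (↥(Cent (g : Module.End F V)))ˣ) : ↥(Cent (g : Module.End F V))) *
          ((w.1 : (↥(Cent (g : Module.End F V)))ˣ) : ↥(Cent (g : Module.End F V))) = 1 := (mul_eq_one_comm.1 hw :)
      constructor
      · intro u v
        change B (f w u) (f w v) = B u v
        have h1 := LinearMap.congr_fun (congrArg Subtype.val hw') u
        change adj hnd ((w.1 : (↥(Cent (g : Module.End F V)))ˣ) : ↥(Cent (g : Module.End F V))).1 (f w u) = u at h1
        rw [hf w v, ← adj_spec hnd, h1]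
      · intro v
        exact (mem_Cent.1 ((w.1 : (↥(Cent (g : Module.End F V)))ˣ) : ↥(Cent (g : Module.End F V))).2 v).symm
    · rintro ⟨h1, h2⟩
      have hm : (h : Module.End F V) ∈ Cent (g : Module.End F V) := mem_Cent.2 fun v => (h2 v).symm
      obtain ⟨w, hw⟩ := exists_mem_U s (v := (⟨(h : Module.End F V), hm⟩ : ↥(Cent (g : Module.End F V)))) (by
        apply mul_eq_one_comm.1
        apply Subtype.ext
        apply LinearMap.ext
        intro u
        change adj hnd (h : Module.End F V) (h u) = u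
        rw [← sub_eq_zero]
        apply hnd
        intro v
        rw [map_sub, LinearMap.sub_apply, adj_spec]
        change B (h u) (h v) - B u v = 0
        have h3 : B (h u) (h v) = B u v := h1 u v
        rw [h3, sub_self])
      refine ⟨w, ?_⟩
      apply LinearEquiv.ext
      intro v
      rw [hf, hw]
      rfl
  have hfin : Finite ↥s.U := inferInstance
  rw [← hfr]
  have hfin2 : Finite ↥f.range := Finite.of_surjective f.rangeRestrict f.rangeRestrict_surjective
  exact key.congr (MonoidHom.ofInjective hfi)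

end Main

end Cfsg.Agent.BpCl.Free

end

-- merged: Cfsg.Agent.BpCl.Done
section

/-!
# Rows of S1332: `PSp` and `POmega`, characteristic `r ≠ p` (helper80), final form
-/

set_option autoImplicit false

namespace Cfsg.Agent.BpCl

open Subgroup Cfsg Cfsg.Agent.BpTab QuadraticMap
open Cfsg.Agent.LieClassical.OrthCore Cfsg.Agent.LieClassical.OrthForms Cfsg.Agent.ClassicalGeometry.OrthSemi
  Cfsg.Agent.ClassicalGeometry.OrthSemiForms

universe u v

theorem goodFree {p : ℕ} (hp : p.Prime) (hp2 : p ≠ 2) : GoodFree.{u, v} p := by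
  intro F V _ _ _ _ _ B ε hε hB hnd g hg hgp hpF hfix
  exact Free.good_free hp hp2 B ε hε hB hnd g hg hgp hpF hfix

theorem cast_ne_zero_of_char {F : Type} [Field F] {r p : ℕ} [CharP F r] (hp : p.Prime) (hr : r ≠ p) : (p : F) ≠ 0 := by
  intro h
  have h1 := (CharP.cast_eq_zero_iff F r p).1 h
  rcases (Nat.dvd_prime hp).1 h1 with h2 | h2
  · exact CharP.char_ne_one F r h2
  · exact hr h2

variable {K : Type u} [Group K] [Finite K] {p r : ℕ}

/-- **Row PSp.** -/
theorem row_psp (hp : p.Prime) (hp2 : p ≠ 2) (hr : r ≠ p) (h : IsPSpChar r K) : BpS p K := by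
  obtain ⟨F, _, _, _, m, hm, h22, ⟨e⟩⟩ := h
  exact bpS_congr hp e.symm (psp (goodFree hp hp2) hm (fun h => by rw [Nat.card_eq_fintype_card]; exact h22 h) hp hp2
    (cast_ne_zero_of_char hp hr))

/-- **Row POmega, odd dimension.** -/
theorem row_omegaOdd (hp : p.Prime) (hp2 : p ≠ 2) (hr : r ≠ p) (h : IsPOmegaOddChar r K) : BpS p K := by
  obtain ⟨F, _, _, _, m, hm, hodd, ⟨e⟩⟩ := h
  have : Finite (POmega F (quadFormOdd m F)) := Finite.of_equiv _ e.toEquiv
  refine bpS_congr hp e.symm (omega_odd (goodFree hp hp2) hm ?_ hp hp2 (cast_ne_zero_of_char hp hr))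
  intro h2
  have h3 : CharP F 2 := by
    obtain ⟨q, hq⟩ := CharP.exists F
    have h3 : q ∣ 2 := (CharP.cast_eq_zero_iff F q 2).1 (by exact_mod_cast h2)
    rcases (Nat.dvd_prime Nat.prime_two).1 h3 with h4 | h4
    · exact absurd h4 (CharP.char_ne_one F q)
    · rwa [h4] at hq
  obtain ⟨n, -, hn⟩ := FiniteField.card F 2
  rw [hn] at hodd
  exact (Nat.not_odd_iff_even.2 (Nat.even_pow.2 ⟨even_two, n.ne_zero⟩)) hodd

/-- **Row POmega, minus type.** -/
theorem row_omegaMinus (hp : p.Prime) (hp2 : p ≠ 2) (hr : r ≠ p) (h : IsPOmegaMinusChar r K) : BpS p K := by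
  obtain ⟨F, _, _, _, m, a, b, hm, hab, ⟨e⟩⟩ := h
  have : Finite (POmega F (quadFormMinus (m - 1) F a b)) := Finite.of_equiv _ e.toEquiv
  exact bpS_congr hp e.symm (omega_minus (goodFree hp hp2) hm hab hp hp2 (cast_ne_zero_of_char hp hr))

end Cfsg.Agent.BpCl

end

-- merged: Cfsg.Agent.BpCl.Rows
section

/-!
# The rows `psp`, `omegaOdd`, `omegaPlus`, `omegaMinus` of S1332, all odd primes

The characteristic `p` is `BpLieP.Main.bpS_of_lieFilt`; `POmega8+`, `p = 3`, in characteristic two is `BpTwo`, so only the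
triality automorphisms in odd characteristic `≠ 3` remain as the hypothesis `TriOdd`.
-/

set_option autoImplicit false

namespace Cfsg.Agent.BpCl

open Subgroup Cfsg Cfsg.Agent.BpTab QuadraticMap
open Cfsg.Agent.LieClassical.OrthCore Cfsg.Agent.LieClassical.OrthForms Cfsg.Agent.ClassicalGeometry.OrthSemi
  Cfsg.Agent.ClassicalGeometry.OrthSemiForms

universe u

/-- The missing piece for `POmega8+(q)`, `q` odd, `p = 3`: automorphisms which are not induced by semisimilitudes. -/
def TriOdd : Prop :=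
  ∀ (F : Type) [Field F] [Fintype F], (2 : F) ≠ 0 → (3 : F) ≠ 0 →
    ∀ x : MulAut (↥(E (plusForm 4 F)) ⧸ Subgroup.center ↥(E (plusForm 4 F))), orderOf x = 3 →
      x ∉ (Psi (plusForm 4 F)).range → Good 3 ↥(fixedSubgroup x)

theorem exists_char (F : Type) [Field F] [Finite F] : ∃ r : ℕ, r.Prime ∧ CharP F r := by
  obtain ⟨r, hr⟩ := CharP.exists F
  exact ⟨r, CharP.char_is_prime F r, hr⟩

variable {p : ℕ} [hp : Fact p.Prime]

/-- **Row PSp.** -/
theorem psp_row (hp2 : p ≠ 2) : Row.{u} p fun X _ => IsPSp X := by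
  rintro X _ _ ⟨F, iF, iF', m, hm, h22, ⟨e⟩⟩
  obtain ⟨r, hr, hc⟩ := exists_char F
  have hX : IsPSpChar r X := ⟨F, iF, iF', hc, m, hm, h22, ⟨e⟩⟩
  by_cases h : r = p
  · subst h
    exact BpLieP.Main.bpS_of_lieFilt hr hp2 (Or.inr (Or.inl hX))
  · exact row_psp hp.out hp2 h hX

/-- **Row POmega, odd dimension.** -/
theorem omegaOdd_row (hp2 : p ≠ 2) : Row.{u} p fun X _ => IsPOmegaOdd X := by
  rintro X _ _ ⟨F, iF, iF', m, hm, hodd, ⟨e⟩⟩
  obtain ⟨r, hr, hc⟩ := exists_char F
  have hX : IsPOmegaOddChar r X := ⟨F, iF, iF', hc, m, hm, hodd, ⟨e⟩⟩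
  by_cases h : r = p
  · subst h
    exact BpLieP.Main.bpS_of_lieFilt hr hp2 (Or.inr (Or.inr (Or.inr (Or.inl hX))))
  · exact row_omegaOdd hp.out hp2 h hX

/-- **Row POmega, minus type.** -/
theorem omegaMinus_row (hp2 : p ≠ 2) : Row.{u} p fun X _ => IsPOmegaMinus X := by
  rintro X _ _ ⟨F, iF, iF', m, a, b, hm, hab, ⟨e⟩⟩
  obtain ⟨r, hr, hc⟩ := exists_char F
  have hX : IsPOmegaMinusChar r X := ⟨F, iF, iF', hc, m, a, b, hm, hab, ⟨e⟩⟩
  by_cases h : r = p
  · subst h
    exact BpLieP.Main.bpS_of_lieFilt hr hp2 (Or.inr (Or.inr (Or.inr (Or.inr (Or.inr (Or.inl hX))))))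
  · exact row_omegaMinus hp.out hp2 h hX

omit hp in
/-- `POmega8+(q)`, `p = 3`, `q` prime to `3`. -/
theorem plus_four (hI : BpTwo.Inp.{0}) (hT : TriOdd) {F : Type} [Field F] [Fintype F] (h3 : (3 : F) ≠ 0) :
    BpS 3 (POmega F (quadFormPlus 4 F)) := by
  have h3p : Fact (Nat.Prime 3) := ⟨Nat.prime_three⟩
  have hG := good_plus (F := F) (m := 4) (by omega)
  have hfin : Finite ↥(E (plusForm 4 F)) := finite_subgroup _
  have hfin' : Finite (Cfsg.POmega F (quadFormPlus 4 F)) := by
    rw [← coe_plusForm]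
    exact Finite.of_equiv _ (pomegaEquiv hG).symm.toEquiv
  by_cases h2 : (2 : F) = 0
  · have hc : CharP F 2 := by
      obtain ⟨q, hq⟩ := CharP.exists F
      have h4 : q ∣ 2 := (CharP.cast_eq_zero_iff F q 2).1 (by exact_mod_cast h2)
      rcases (Nat.dvd_prime Nat.prime_two).1 h4 with h5 | h5
      · exact absurd h5 (CharP.char_ne_one F q)
      · rwa [h5] at hq
    have hs := Cfsg.Agent.S0296.result (F := F) 4 le_rfl
    exact BpTwo.bpS_of_lie_two hI (by norm_num) (Or.inr (Or.inr (Or.inr (Or.inr (Or.inl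
      ⟨F, inferInstance, inferInstance, hc, 4, le_rfl, ⟨MulEquiv.refl _⟩⟩)))))
  · rw [← coe_plusForm] at hfin' ⊢
    refine bpS_congr Nat.prime_three (pomegaEquiv hG).symm fun x hx => ?_
    by_cases hr : x ∈ (Psi (plusForm 4 F)).range
    · exact omega_plus_four_of_mem (goodFree Nat.prime_three (by norm_num)) h3 hx hr
    · exact hT F h2 h3 x hx hr

/-- **Row POmega, plus type** (triality in odd characteristic is the hypothesis `TriOdd`). -/
theorem omegaPlus_row (hI : BpTwo.Inp.{0}) (hT : TriOdd) (hp2 : p ≠ 2) : Row.{u} p fun X _ => IsPOmegaPlus X := by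
  rintro X _ _ ⟨F, iF, iF', m, hm, ⟨e⟩⟩
  obtain ⟨r, hr, hc⟩ := exists_char F
  have hX : IsPOmegaPlusChar r X := ⟨F, iF, iF', hc, m, hm, ⟨e⟩⟩
  by_cases h : r = p
  · subst h
    exact BpLieP.Main.bpS_of_lieFilt hr hp2 (Or.inr (Or.inr (Or.inr (Or.inr (Or.inl hX)))))
  have hpF := cast_ne_zero_of_char (F := F) hp.out h
  have hfin : Finite (POmega F (quadFormPlus m F)) := Finite.of_equiv _ e.toEquiv
  refine bpS_congr hp.out e.symm ?_
  by_cases h43 : m = 4 ∧ p = 3
  · obtain ⟨rfl, rfl⟩ := h43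
    exact plus_four hI hT (by exact_mod_cast hpF)
  · exact omega_plus (goodFree hp.out hp2) hm hp.out hp2 hpF fun h4 h3 => h43 ⟨h4, h3⟩

end Cfsg.Agent.BpCl

end
end

private theorem dce_d1ae5bdedb70 : _root_.True := by
  try have : _root_.True := by simp only [_root_.Cfsg.Agent.BpLieP.Tri.sD4.eq_1]
  try have : _root_.True := by simp only [_root_.Cfsg.Agent.BpLieP.Tri.sTw.eq_1]
  exact _root_.True.intro
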